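import Groth.Agent.GenFree.Package
import Groth.Agent.GeomFibre.Descent

/-!
Spreading out non-vanishing and non-reducedness from the generic fibre.
-/

universe u

open TensorProduct Groth.GenFree

namespace Groth.Agent.GenericFibreSpread

/-- A non-torsion element stays non-zero at all field points of an open set. -/
theorem exists_tmul_ne_zero_of_freeAt {D : Type u} [CommRing D] [IsDomain D] {a : D} {M : Type u}
    [AddCommGroup M] [Module D M] (h : FreeAt a M) (ha : a ≠ 0) (m : M)
    (hm : ∀ d : D, d ≠ 0 → d • m ≠ 0) :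
    ∃ c : D, c ≠ 0 ∧ ∀ (L : Type u) [Field L] [Algebra D L], algebraMap D L c ≠ 0 → (1 : L) ⊗ₜ[D] m ≠ 0 := by
  obtain ⟨ι, e, hli, hsp⟩ := h
  obtain ⟨n, hn⟩ := hsp m
  obtain ⟨l, hl⟩ := Finsupp.mem_span_range_iff_exists_finsupp.mp hn
  obtain ⟨i, hi⟩ : ∃ i, l i ≠ 0 := by
    by_contra h0
    push Not at h0
    refine hm (a ^ n) (pow_ne_zero n ha) ?_
    rw [← hl, show l = 0 from Finsupp.ext h0, Finsupp.sum_zero_index]
  refine ⟨a * l i, mul_ne_zero ha hi, fun L _ _ hc => ?_⟩
  rw [map_mul] at hc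
  let Da := Localization.Away a
  let f := LocalizedModule.mkLinearMap (Submonoid.powers a) M
  obtain ⟨b, hb⟩ := exists_basis_of_freeAt hli hsp Da f
  let ρ : Da →+* L := IsLocalization.Away.lift (g := algebraMap D L) a (left_ne_zero_of_mul hc).isUnit
  letI : Algebra Da L := ρ.toAlgebra
  haveI : IsScalarTower D Da L :=
    IsScalarTower.of_algebraMap_eq fun d => (IsLocalization.Away.lift_eq a (left_ne_zero_of_mul hc).isUnit d).symm
  let ψ : M →ₗ[D] L :=
    (((Algebra.linearMap Da L).comp ((Finsupp.lapply i).comp b.repr.toLinearMap)).restrictScalars D).comp f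
  intro h0
  have h1 : ψ (a ^ n • m) = 0 := by
    have := congrArg (ψ.liftBaseChange L) h0
    rw [LinearMap.liftBaseChange_tmul, one_smul, map_zero] at this
    rw [map_smul, this, smul_zero]
  refine right_ne_zero_of_mul hc ?_
  rw [← h1, ← hl]
  show _ = algebraMap Da L (b.repr (f (l.sum fun i c => c • e i)) i)
  have hsum : b.repr (f (l.sum fun i c => c • e i)) = l.mapRange (algebraMap D Da) (map_zero _) := by
    rw [map_finsuppSum]
    apply b.repr.symm.injective
    rw [LinearEquiv.symm_apply_apply, Module.Basis.repr_symm_apply, Finsupp.linearCombination_apply]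
    refine Eq.trans ?_ (Finsupp.sum_mapRange_index (h := fun i c => c • b i) fun i => zero_smul _ _).symm
    exact Finsupp.sum_congr fun j _ => by rw [map_smul, hb, algebraMap_smul]
  rw [hsum, Finsupp.mapRange_apply]
  exact IsScalarTower.algebraMap_apply D Da L (l i)

section Domain

variable (D B : Type u) [CommRing D] [IsDomain D] [CommRing B] [Algebra D B] [Algebra.FiniteType D B]
  (K : Type u) [Field K] [Algebra D K] [IsFractionRing D K]

theorem torsion_iff (b : B) : (1 : K) ⊗ₜ[D] b = 0 ↔ ∃ d : D, d ≠ 0 ∧ d • b = 0 := by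
  haveI : IsLocalizedModule (nonZeroDivisors D) (TensorProduct.mk D K B 1) := isLocalizedModule_mk _ _ _
  refine (IsLocalizedModule.eq_zero_iff (nonZeroDivisors D) (TensorProduct.mk D K B 1)).trans ⟨?_, ?_⟩
  · rintro ⟨⟨d, hd⟩, h⟩
    exact ⟨d, nonZeroDivisors.ne_zero hd, h⟩
  · rintro ⟨d, hd, h⟩
    exact ⟨⟨d, mem_nonZeroDivisors_of_ne_zero hd⟩, h⟩

theorem exists_forall_nontrivial (h : Nontrivial (K ⊗[D] B)) :
    ∃ c : D, c ≠ 0 ∧ ∀ (L : Type u) [Field L] [Algebra D L], algebraMap D L c ≠ 0 → Nontrivial (L ⊗[D] B) := by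
  obtain ⟨a, ha, hfree, -⟩ := exists_algebra_freeAt D B
  obtain ⟨c, hc, H⟩ := exists_tmul_ne_zero_of_freeAt hfree ha (1 : B) fun d hd hd1 =>
    one_ne_zero (α := K ⊗[D] B) ((torsion_iff D B K 1).2 ⟨d, hd, hd1⟩)
  exact ⟨c, hc, fun L _ _ hL => nontrivial_of_ne _ _ (H L hL)⟩

theorem exists_forall_not_isReduced (h : ¬ IsReduced (K ⊗[D] B)) :
    ∃ c : D, c ≠ 0 ∧ ∀ (L : Type u) [Field L] [Algebra D L], algebraMap D L c ≠ 0 → ¬ IsReduced (L ⊗[D] B) := by
  obtain ⟨z, ⟨n, hzn⟩, hz⟩ : ∃ z : K ⊗[D] B, IsNilpotent z ∧ z ≠ 0 := by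
    by_contra h'
    exact h ⟨fun z hz => by_contra fun h0 => h' ⟨z, hz, h0⟩⟩
  haveI : IsLocalizedModule (nonZeroDivisors D) (TensorProduct.mk D K B 1) := isLocalizedModule_mk _ _ _
  obtain ⟨⟨b, s⟩, hb⟩ := IsLocalizedModule.surj (nonZeroDivisors D) (TensorProduct.mk D K B 1) z
  have hb' : (s : D) • z = (1 : K) ⊗ₜ[D] b := hb
  have hbne : (1 : K) ⊗ₜ[D] b ≠ 0 := by
    rw [← hb']
    intro h0
    refine hz ?_
    rw [← algebraMap_smul K (s : D) z, smul_eq_zero] at h0
    exact h0.resolve_left ((map_ne_zero_iff _ (IsFractionRing.injective D K)).2 (nonZeroDivisors.ne_zero s.2))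
  have hbn : (1 : K) ⊗ₜ[D] (b ^ n) = 0 := by
    rw [show (1 : K) ⊗ₜ[D] (b ^ n) = ((1 : K) ⊗ₜ[D] b) ^ n by rw [Algebra.TensorProduct.tmul_pow, one_pow], ← hb', smul_pow, hzn, smul_zero]
  obtain ⟨d, hd, hdb⟩ := (torsion_iff D B K (b ^ n)).1 hbn
  obtain ⟨a, ha, hfree, -⟩ := exists_algebra_freeAt D B
  obtain ⟨c, hc, H⟩ := exists_tmul_ne_zero_of_freeAt hfree ha (d • b) fun e he he0 =>
    hbne ((torsion_iff D B K b).2 ⟨e * d, mul_ne_zero he hd, by rw [mul_smul]; exact he0⟩)
  refine ⟨c, hc, fun L _ _ hL hred => H L hL (IsReduced.eq_zero _ ⟨n + 1, ?_⟩)⟩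
  rw [Algebra.TensorProduct.tmul_pow, smul_pow, pow_succ d, pow_succ' b, mul_smul, ← mul_smul_comm, hdb, mul_zero,
    smul_zero, tmul_zero]

end Domain

section Quotient

variable (R B : Type u) [CommRing R] [CommRing B] [Algebra R B] [Algebra.FiniteType R B]
  (K : Type u) [Field K] [Algebra R K]
  (hfrac : ∀ x : K, ∃ a b : R, algebraMap R K b ≠ 0 ∧ x * algebraMap R K b = algebraMap R K a)

include hfrac

/-- Reduction to the domain case. -/
theorem exists_domain_model : ∃ (D : Type u) (_ : CommRing D) (_ : IsDomain D) (_ : Algebra R D)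
    (_ : Algebra D K) (_ : IsScalarTower R D K) (_ : IsFractionRing D K),
    Function.Surjective (algebraMap R D) ∧
    ∀ (L : Type u) [Field L] [Algebra R L], RingHom.ker (algebraMap R K) ≤ RingHom.ker (algebraMap R L) →
      ∃ (_ : Algebra D L), IsScalarTower R D L := by
  let p := RingHom.ker (algebraMap R K)
  haveI : p.IsPrime := RingHom.ker_isPrime _
  letI : Algebra (R ⧸ p) K := (RingHom.kerLift (algebraMap R K)).toAlgebra
  haveI : IsScalarTower R (R ⧸ p) K := IsScalarTower.of_algebraMap_eq fun r => rfl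
  haveI : FaithfulSMul (R ⧸ p) K :=
    (faithfulSMul_iff_algebraMap_injective _ _).2 (RingHom.kerLift_injective _)
  have hf : IsFractionRing (R ⧸ p) K := by
    refine IsFractionRing.of_field _ _ fun x => ?_
    obtain ⟨a, b, hb, h⟩ := hfrac x
    exact ⟨Ideal.Quotient.mk p a, Ideal.Quotient.mk p b, ((div_eq_iff hb).2 h.symm).symm⟩
  refine ⟨R ⧸ p, inferInstance, inferInstance, inferInstance, inferInstance, inferInstance, hf,
    Ideal.Quotient.mk_surjective, fun L _ _ hle => ?_⟩
  exact ⟨(Ideal.Quotient.lift p (algebraMap R L) fun a ha => hle ha).toAlgebra,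
    letI := (Ideal.Quotient.lift p (algebraMap R L) fun a ha => hle ha).toAlgebra
    IsScalarTower.of_algebraMap_eq fun r => rfl⟩

theorem exists_nontrivial_spread (h : Nontrivial (K ⊗[R] B)) :
    ∃ c : R, algebraMap R K c ≠ 0 ∧ ∀ (L : Type u) [Field L] [Algebra R L],
      RingHom.ker (algebraMap R K) ≤ RingHom.ker (algebraMap R L) → algebraMap R L c ≠ 0 →
        Nontrivial (L ⊗[R] B) := by
  obtain ⟨D, _, _, _, _, _, _, hsurj, hD⟩ := exists_domain_model R K hfrac
  have : Nontrivial (K ⊗[D] (D ⊗[R] B)) :=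
    (Algebra.TensorProduct.cancelBaseChange R D D K B).toEquiv.nontrivial
  obtain ⟨c', hc', H⟩ := exists_forall_nontrivial D (D ⊗[R] B) K this
  obtain ⟨c, rfl⟩ := hsurj c'
  refine ⟨c, ?_, fun L _ _ hle hc => ?_⟩
  · rw [IsScalarTower.algebraMap_apply R D K]
    exact (map_ne_zero_iff _ (IsFractionRing.injective D K)).2 hc'
  · obtain ⟨_, _⟩ := hD L hle
    have := H L (by rwa [← IsScalarTower.algebraMap_apply])
    exact (Algebra.TensorProduct.cancelBaseChange R D D L B).symm.toEquiv.nontrivial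

theorem exists_not_isReduced_spread (h : ¬ IsReduced (K ⊗[R] B)) :
    ∃ c : R, algebraMap R K c ≠ 0 ∧ ∀ (L : Type u) [Field L] [Algebra R L],
      RingHom.ker (algebraMap R K) ≤ RingHom.ker (algebraMap R L) → algebraMap R L c ≠ 0 →
        ¬ IsReduced (L ⊗[R] B) := by
  obtain ⟨D, _, _, _, _, _, _, hsurj, hD⟩ := exists_domain_model R K hfrac
  obtain ⟨c', hc', H⟩ := exists_forall_not_isReduced D (D ⊗[R] B) K fun _ => h
    (isReduced_of_injective (Algebra.TensorProduct.cancelBaseChange R D D K B).symm (AlgEquiv.injective _))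
  obtain ⟨c, rfl⟩ := hsurj c'
  refine ⟨c, ?_, fun L _ _ hle hc hred => ?_⟩
  · rw [IsScalarTower.algebraMap_apply R D K]
    exact (map_ne_zero_iff _ (IsFractionRing.injective D K)).2 hc'
  · obtain ⟨_, _⟩ := hD L hle
    exact H L (by rwa [← IsScalarTower.algebraMap_apply])
      (isReduced_of_injective (Algebra.TensorProduct.cancelBaseChange R D D L B) (AlgEquiv.injective _))

/-- Non-reducedness over a finite extension of the generic point spreads out. -/
theorem exists_not_isReduced_ext_spread (K' : Type u) [Field K'] [Algebra K K'] [Algebra R K']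
    [IsScalarTower R K K'] [FiniteDimensional K K'] (h : ¬ IsReduced (K' ⊗[R] B)) :
    ∃ c : R, algebraMap R K c ≠ 0 ∧ ∀ (L : Type u) [Field L] [Algebra R L],
      RingHom.ker (algebraMap R K) ≤ RingHom.ker (algebraMap R L) → algebraMap R L c ≠ 0 →
        ∃ (L' : Type u) (_ : Field L') (_ : Algebra L L') (_ : Algebra R L') (_ : IsScalarTower R L L'),
          ¬ IsReduced (L' ⊗[R] B) := by
  classical
  obtain ⟨D, _, _, _, _, _, _, hsurj, hD⟩ := exists_domain_model R K hfrac
  letI : Algebra D K' := ((algebraMap K K').comp (algebraMap D K)).toAlgebra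
  haveI : IsScalarTower D K K' := IsScalarTower.of_algebraMap_eq fun _ => rfl
  haveI : IsScalarTower R D K' := IsScalarTower.of_algebraMap_eq fun r => by
    rw [IsScalarTower.algebraMap_apply R K K', IsScalarTower.algebraMap_apply R D K]; rfl
  haveI : Algebra.IsAlgebraic D K' := by
    haveI : Algebra.IsAlgebraic D K := IsLocalization.isAlgebraic K (nonZeroDivisors D)
    exact Algebra.IsAlgebraic.trans D K K'
  let bas := Module.finBasis K K'
  have hinjD : Function.Injective (algebraMap D K') :=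
    (RingHom.injective (algebraMap K K')).comp (IsFractionRing.injective D K)
  choose y hy0 hyint using fun i => Algebra.IsAlgebraic.exists_integral_multiples D ({bas i} : Finset K')
  let A : Subalgebra D K' := Algebra.adjoin D (Set.range fun i => y i • bas i)
  have hAint : Algebra.IsIntegral D A := by
    refine ⟨fun z => ?_⟩
    have : (z : K') ∈ integralClosure D K' :=
      Algebra.adjoin_le (by rintro _ ⟨i, rfl⟩; exact hyint i _ (Finset.mem_singleton_self _)) z.2
    exact (isIntegral_algHom_iff A.val Subtype.val_injective).1 this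
  have hAfg : A.FG := by
    rw [show A = Algebra.adjoin D ((Finset.univ.image fun i => y i • bas i : Finset K') : Set K') by
      simp [A, Set.range]]
    exact Subalgebra.fg_adjoin_finset _
  haveI : Algebra.FiniteType D A := (Subalgebra.fg_iff_finiteType A).1 hAfg
  -- every element is a fraction
  have hfrac' : ∀ x : K', ∃ a b : A, algebraMap A K' b ≠ 0 ∧ x * algebraMap A K' b = algebraMap A K' a := by
    intro x
    have key : ∀ z ∈ Submodule.span K (Set.range bas), ∃ d : D, d ≠ 0 ∧ d • z ∈ A := by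
      intro z hz
      induction hz using Submodule.span_induction with
      | mem z hz =>
        obtain ⟨i, rfl⟩ := hz
        exact ⟨y i, hy0 i, Algebra.subset_adjoin ⟨i, rfl⟩⟩
      | zero => exact ⟨1, one_ne_zero, by rw [smul_zero]; exact zero_mem _⟩
      | add u v _ _ hu hv =>
        obtain ⟨d, hd, hdu⟩ := hu
        obtain ⟨d', hd', hdv⟩ := hv
        refine ⟨d * d', mul_ne_zero hd hd', ?_⟩
        rw [smul_add, mul_comm, mul_smul, mul_comm d', mul_smul d d' v]
        exact add_mem (A.smul_mem hdu _) (A.smul_mem hdv _)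
      | smul κ u _ hu =>
        obtain ⟨d, hd, hdu⟩ := hu
        obtain ⟨⟨p, q⟩, hpq⟩ := IsLocalization.surj (nonZeroDivisors D) κ
        refine ⟨(q : D) * d, mul_ne_zero (nonZeroDivisors.ne_zero q.2) hd, ?_⟩
        rw [mul_smul, smul_comm d κ u, ← smul_assoc, Algebra.smul_def (q : D) κ, mul_comm,
          show κ * algebraMap D K (q : D) = algebraMap D K p from hpq, algebraMap_smul]
        exact A.smul_mem hdu _
    obtain ⟨d, hd, hdx⟩ := key x (by rw [bas.span_eq]; trivial)
    refine ⟨⟨d • x, hdx⟩, ⟨algebraMap D K' d, A.algebraMap_mem d⟩, (map_ne_zero_iff _ hinjD).2 hd, ?_⟩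
    show x * algebraMap D K' d = d • x
    rw [Algebra.smul_def, mul_comm]
  have hne : ¬ IsReduced (K' ⊗[A] (A ⊗[R] B)) := fun _ => h
    (isReduced_of_injective (Algebra.TensorProduct.cancelBaseChange R A A K' B).symm (AlgEquiv.injective _))
  obtain ⟨c'', hc'', H⟩ := exists_not_isReduced_spread A (A ⊗[R] B) K' hfrac' hne
  have hc''0 : c'' ≠ 0 := fun h0 => hc'' (by rw [h0, map_zero])
  obtain ⟨c', hc'0, hdvd⟩ : ∃ c' : D, c' ≠ 0 ∧ c'' ∣ algebraMap D A c' :=
    (Algebra.IsAlgebraic.isAlgebraic c'').exists_nonzero_dvd (mem_nonZeroDivisors_of_ne_zero hc''0)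
  obtain ⟨c, rfl⟩ := hsurj c'
  refine ⟨c, by rw [IsScalarTower.algebraMap_apply R D K]
                exact (map_ne_zero_iff _ (IsFractionRing.injective D K)).2 hc'0, fun L _ _ hle hcL => ?_⟩
  obtain ⟨_, _⟩ := hD L hle
  let q := RingHom.ker (algebraMap D L)
  haveI : q.IsPrime := RingHom.ker_isPrime _
  obtain ⟨Q, -, hQ, hQq⟩ := Ideal.exists_ideal_over_prime_of_isIntegral q (⊥ : Ideal A) (by
    intro z hz
    rw [Ideal.mem_comap, Ideal.mem_bot] at hz
    rw [show z = 0 from (map_eq_zero_iff _ hinjD).1 (congrArg Subtype.val hz)]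
    exact zero_mem _)
  haveI : Q.IsPrime := hQ
  haveI : Q.LiesOver q := ⟨hQq.symm⟩
  let iq : q.ResidueField →+* L := Ideal.ResidueField.lift q (algebraMap D L) (fun _ h => h) fun z hz => (show algebraMap D L z ≠ 0 from hz).isUnit
  let iQ : q.ResidueField →+* Q.ResidueField := Ideal.ResidueField.map q Q (algebraMap D A) hQq.symm
  obtain ⟨Ω, _, i₁, i₂, hi⟩ := GeomFibre.exists_common_field q.ResidueField L Q.ResidueField iq iQ
  letI : Algebra L Ω := i₁.toAlgebra
  letI : Algebra R Ω := (i₁.comp (algebraMap R L)).toAlgebra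
  letI : Algebra A Ω := (i₂.comp (algebraMap A Q.ResidueField)).toAlgebra
  haveI : IsScalarTower R A Ω := IsScalarTower.of_algebraMap_eq fun r => by
    show i₁ (algebraMap R L r) = i₂ (algebraMap A Q.ResidueField (algebraMap R A r))
    rw [IsScalarTower.algebraMap_apply R D A, ← IsScalarTower.algebraMap_apply D A Q.ResidueField,
      IsScalarTower.algebraMap_apply R D L, IsScalarTower.algebraMap_apply D A Q.ResidueField,
      show algebraMap A Q.ResidueField (algebraMap D A (algebraMap R D r)) =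
        iQ (algebraMap D q.ResidueField (algebraMap R D r)) from (Ideal.ResidueField.map_algebraMap ..).symm]
    refine Eq.trans ?_ (RingHom.congr_fun hi (algebraMap D q.ResidueField (algebraMap R D r)))
    exact congrArg i₁ (Ideal.ResidueField.lift_algebraMap q _ _ _ _).symm
  refine ⟨Ω, inferInstance, inferInstance, inferInstance, IsScalarTower.of_algebraMap_eq fun r => rfl, fun _ => ?_⟩
  refine H Ω ?_ ?_ (isReduced_of_injective (Algebra.TensorProduct.cancelBaseChange R A A Ω B) (AlgEquiv.injective _))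
  · intro z hz
    rw [show z = 0 from Subtype.ext hz]
    exact zero_mem _
  · show i₂ (algebraMap A Q.ResidueField c'') ≠ 0
    rw [Ne, map_eq_zero, Ideal.algebraMap_residueField_eq_zero]
    intro hcQ
    have h1 : algebraMap D A (algebraMap R D c) ∈ Q := Q.mem_of_dvd hdvd hcQ
    rw [← Ideal.mem_comap, hQq, RingHom.mem_ker, ← IsScalarTower.algebraMap_apply] at h1
    exact hcL h1

end Quotient

end Groth.Agent.GenericFibreSpread
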