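import Groth.Agent.GenericFinite.Basic
import Groth.Agent.GeomUnib.FibreDimNhds
import Groth.Agent.GenericFibreSpread.Alg
import Groth.Agent.FibreND.Scheme

/-!
The fibre dimension is constant near the generic point.
-/

universe u

open AlgebraicGeometry CategoryTheory Limits TensorProduct

namespace Groth.Agent.GenericFibreSpread

open FibreDim GeomUnib.FibreDimNhds

/-- The quasi-finite locus contains a basic open around each of its points. -/
theorem exists_notMem_forall_quasiFiniteAt {R B : Type u} [CommRing R] [CommRing B] [Algebra R B]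
    [Algebra.FiniteType R B] (q : Ideal B) [q.IsPrime] [Algebra.QuasiFiniteAt R q] :
    ∃ r ∉ q, ∀ Q : Ideal B, ∀ _ : Q.IsPrime, r ∉ Q → Algebra.QuasiFiniteAt R Q := by
  obtain ⟨S, hS, r, hr, hbij⟩ := Algebra.QuasiFiniteAt.exists_fg_and_exists_notMem_and_awayMap_bijective (R := R) q
  haveI : Module.Finite R S := ⟨(Submodule.fg_top _).mpr hS⟩
  refine ⟨r.1, hr, fun Q _ hrQ => ?_⟩
  have key : ∀ b : B, ∃ k : ℕ, r.1 ^ k * b ∈ S := fun b => by
    obtain ⟨z, hz⟩ := hbij.2 (algebraMap B _ b)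
    obtain ⟨⟨s, t⟩, hst⟩ := IsLocalization.surj (Submonoid.powers r) z
    obtain ⟨j, hj⟩ := t.2
    have hmap : ∀ x : S, Localization.awayMap S.val.toRingHom r (algebraMap S _ x) =
        algebraMap B (Localization.Away r.1) (x : B) := fun x => IsLocalization.map_eq (S := Localization.Away r) _ _
    have h2 := congrArg (Localization.awayMap S.val.toRingHom r) hst
    rw [map_mul, hmap, hmap, ← hj] at h2
    have hz' : Localization.awayMap S.val.toRingHom r z = algebraMap B (Localization.Away r.1) b := hz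
    rw [hz'] at h2
    replace h2 : algebraMap B (Localization.Away r.1) (b * ((r ^ j : S) : B)) = algebraMap B (Localization.Away r.1) (s : B) :=
      ((algebraMap B (Localization.Away r.1)).map_mul _ _).trans h2
    obtain ⟨⟨_, i, rfl⟩, hi⟩ := (IsLocalization.eq_iff_exists (Submonoid.powers r.1) _).1 h2
    refine ⟨i + j, ?_⟩
    have : r.1 ^ (i + j) * b = r.1 ^ i * (s : B) := by
      simp at hi
      rw [← hi]; ring
    rw [this]
    exact S.mul_mem (S.pow_mem r.2 i) s.2
  have hu : IsUnit (algebraMap B (Localization.AtPrime Q) r.1) :=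
    IsLocalization.map_units (Localization.AtPrime Q) (⟨r.1, hrQ⟩ : Q.primeCompl)
  refine Algebra.QuasiFinite.of_forall_exists_mul_mem_range ((IsScalarTower.toAlgHom R B _).comp S.val) fun x => ?_
  obtain ⟨b, c, rfl⟩ := IsLocalization.exists_mk'_eq Q.primeCompl x
  obtain ⟨i, hi⟩ := key b
  obtain ⟨j, hj⟩ := key c
  have hs : r.1 ^ (i + j) * (c : B) ∈ S := by
    rw [pow_add, mul_assoc]; exact S.mul_mem (S.pow_mem r.2 i) hj
  have hb : r.1 ^ (i + j) * b ∈ S := by
    rw [pow_add, mul_comm (r.1 ^ i), mul_assoc]; exact S.mul_mem (S.pow_mem r.2 j) hi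
  refine ⟨⟨_, hs⟩, ?_, ⟨⟨_, hb⟩, ?_⟩⟩
  · show IsUnit (algebraMap B (Localization.AtPrime Q) (r.1 ^ (i + j) * (c : B)))
    rw [map_mul, map_pow]
    exact (hu.pow _).mul (IsLocalization.map_units _ c)
  · show algebraMap B (Localization.AtPrime Q) (r.1 ^ (i + j) * b) =
      IsLocalization.mk' _ b c * algebraMap B (Localization.AtPrime Q) (r.1 ^ (i + j) * (c : B))
    rw [map_mul, map_mul, mul_left_comm, IsLocalization.mk'_spec]

/-- A quasi-finite map to affine space generic over a minimal prime is generic over nearby primes. -/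
theorem exists_forall_isQFAt {A B : Type u} [CommRing A] [CommRing B] [Algebra A B] [Algebra.FiniteType A B]
    [(nilradical A).IsPrime] {n : ℕ} (φ : MvPolynomial (Fin n) A →ₐ[A] B) (q : Ideal B) [q.IsPrime]
    (h : IsQFAt φ q) (hA : q.under A = nilradical A) (hinj : Function.Injective (quotMap φ q)) :
    ∃ a : A, a ∉ nilradical A ∧ ∀ p : Ideal A, p.IsPrime → a ∉ p →
      ∃ (Q : Ideal B) (_ : Q.IsPrime), Q.under A = p ∧ IsQFAt φ Q ∧ Function.Injective (quotMap φ Q) := by
  letI : Algebra (MvPolynomial (Fin n) A) B := φ.toRingHom.toAlgebra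
  haveI : IsScalarTower A (MvPolynomial (Fin n) A) B :=
    IsScalarTower.of_algebraMap_eq fun a => (φ.commutes a).symm
  haveI : Algebra.FiniteType (MvPolynomial (Fin n) A) B := Algebra.FiniteType.of_restrictScalars_finiteType A _ _
  haveI : Algebra.QuasiFiniteAt (MvPolynomial (Fin n) A) q := h
  obtain ⟨r, hr, hQF⟩ := exists_notMem_forall_quasiFiniteAt (R := MvPolynomial (Fin n) A) q
  let R := MvPolynomial (Fin n) A
  let P : Ideal R := q.comap φ.toRingHom
  have hP : P = RingHom.ker (MvPolynomial.map (σ := Fin n) (Ideal.Quotient.mk (q.under A))) :=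
    (injective_quotMap_iff φ q).1 hinj
  letI : Algebra R P.ResidueField := inferInstance
  let B' := Localization.Away r
  haveI : Algebra.FiniteType R B' := (inferInstance : Algebra.FiniteType R B).trans
    (IsLocalization.finiteType_of_monoid_fg (Submonoid.powers r) B')
  have hfrac : ∀ x : P.ResidueField, ∃ a b : R, algebraMap R P.ResidueField b ≠ 0 ∧
      x * algebraMap R P.ResidueField b = algebraMap R P.ResidueField a := fun x => by
    obtain ⟨a', b', hb', rfl⟩ := IsFractionRing.div_surjective (R ⧸ P) x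
    obtain ⟨a, rfl⟩ := Ideal.Quotient.mk_surjective a'
    obtain ⟨b, rfl⟩ := Ideal.Quotient.mk_surjective b'
    have hb0 : algebraMap (R ⧸ P) P.ResidueField (Ideal.Quotient.mk P b) ≠ 0 :=
      (map_ne_zero_iff _ (IsFractionRing.injective _ _)).2 (nonZeroDivisors.ne_zero hb')
    exact ⟨a, b, hb0, div_mul_cancel₀ _ hb0⟩
  have hnt : Nontrivial (P.ResidueField ⊗[R] B') := by
    let ψ : B' →ₐ[R] q.ResidueField :=
      { IsLocalization.Away.lift r (g := algebraMap B q.ResidueField)
          (isUnit_iff_ne_zero.2 fun h0 => hr (Ideal.algebraMap_residueField_eq_zero.1 h0)) with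
        commutes' := fun a => by
          show IsLocalization.Away.lift r _ (algebraMap R B' a) = _
          rw [IsScalarTower.algebraMap_apply R B B', IsLocalization.Away.lift_eq]
          rfl }
    haveI : q.LiesOver P := ⟨rfl⟩
    exact (Algebra.TensorProduct.lift (Ideal.ResidueField.liftₐ P (Algebra.ofId R q.ResidueField)
      (fun a ha => RingHom.mem_ker.2 (Ideal.algebraMap_residueField_eq_zero.2 (show algebraMap R B a ∈ q from ha)))
      (fun a ha => isUnit_iff_ne_zero.2 fun h0 => ha (show algebraMap R B a ∈ q from Ideal.algebraMap_residueField_eq_zero.1 h0))) ψ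
      fun _ _ => Commute.all _ _).toRingHom.domain_nontrivial
  obtain ⟨c, hc, H⟩ := exists_nontrivial_spread R B' P.ResidueField hfrac hnt
  have hcP : c ∉ P := fun h => hc (Ideal.algebraMap_residueField_eq_zero.2 h)
  rw [hP, RingHom.mem_ker, ← ne_eq, MvPolynomial.ne_zero_iff] at hcP
  obtain ⟨d, hd⟩ := hcP
  rw [MvPolynomial.coeff_map, ne_eq, Ideal.Quotient.eq_zero_iff_mem, hA] at hd
  refine ⟨_, hd, fun p hp hap => ?_⟩
  let P' : Ideal R := RingHom.ker (MvPolynomial.map (σ := Fin n) (Ideal.Quotient.mk p))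
  haveI : P'.IsPrime := RingHom.ker_isPrime _
  have hle : P ≤ P' := by
    rw [hP, hA]
    intro x hx
    rw [RingHom.mem_ker] at hx ⊢
    ext e
    have := congrArg (MvPolynomial.coeff e) hx
    rw [MvPolynomial.coeff_map, MvPolynomial.coeff_zero, Ideal.Quotient.eq_zero_iff_mem] at this
    rw [MvPolynomial.coeff_map, MvPolynomial.coeff_zero, Ideal.Quotient.eq_zero_iff_mem]
    exact nilradical_le_prime p this
  have := H P'.ResidueField (by rw [Ideal.ker_algebraMap_residueField, Ideal.ker_algebraMap_residueField]; exact hle)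
    fun h0 => hap (by
      have h1 : c ∈ P' := Ideal.algebraMap_residueField_eq_zero.1 h0
      have h2 := congrArg (MvPolynomial.coeff d) (RingHom.mem_ker.1 h1)
      rwa [MvPolynomial.coeff_map, MvPolynomial.coeff_zero, Ideal.Quotient.eq_zero_iff_mem] at h2)
  obtain ⟨z⟩ := (inferInstance : Nonempty (PrimeSpectrum (P'.ResidueField ⊗[R] B')))
  let Q' : Ideal B' := z.asIdeal.comap (Algebra.TensorProduct.includeRight : B' →ₐ[R] P'.ResidueField ⊗[R] B').toRingHom
  let Q : Ideal B := Q'.comap (algebraMap B B')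
  have hQP : Q.comap φ.toRingHom = P' := by
    ext a
    show Algebra.TensorProduct.includeRight (R := R) (A := P'.ResidueField) (algebraMap B B' (algebraMap R B a)) ∈
      z.asIdeal ↔ _
    rw [← IsScalarTower.algebraMap_apply R B B', AlgHom.commutes, IsScalarTower.algebraMap_apply R P'.ResidueField,
      ← Ideal.algebraMap_residueField_eq_zero (I := P') (x := a)]
    exact ⟨fun hz => by_contra fun h0 => z.isPrime.ne_top (Ideal.eq_top_of_isUnit_mem _ hz
      ((isUnit_iff_ne_zero.2 h0).map _)), fun h0 => by rw [h0, map_zero]; exact z.asIdeal.zero_mem⟩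
  have hQp : Q.under A = p := by
    ext a
    have := SetLike.ext_iff.1 hQP (MvPolynomial.C a)
    rw [Ideal.mem_comap, RingHom.mem_ker, MvPolynomial.map_C, map_eq_zero_iff _ (MvPolynomial.C_injective _ _),
      Ideal.Quotient.eq_zero_iff_mem] at this
    rw [Ideal.mem_comap, ← this, ← MvPolynomial.algebraMap_eq]
    exact Iff.of_eq (congrArg (· ∈ Q) (φ.commutes a).symm)
  refine ⟨Q, inferInstance, hQp, hQF Q inferInstance fun hrQ => ?_, (injective_quotMap_iff φ Q).2 (by rw [hQP, hQp])⟩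
  exact z.isPrime.ne_top (Ideal.eq_top_of_isUnit_mem _ hrQ
    ((IsLocalization.Away.algebraMap_isUnit (S := B') r).map _))

variable {X Y : Scheme.{u}} (f : X ⟶ Y) [IrreducibleSpace Y] [LocallyOfFiniteType f]

/-- Over a non-empty open the fibres are at least as big as the generic one. -/
theorem exists_le_dim_fibre (n : ℕ) (h : topologicalKrullDim ↥(f.fiber (genericPoint Y)) = n) :
    ∃ V : Y.Opens, (V : Set Y).Nonempty ∧ ∀ y ∈ V, (n : WithBot ℕ∞) ≤ topologicalKrullDim ↥(f.fiber y) := by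
  obtain ⟨V₀, hV₀, hp, hηV₀, hη₀⟩ := FibreND.exists_base_chart Y
  obtain ⟨w, hw, hwn⟩ := exists_le_fdim f h.ge
  have hfd : fdim f w = n := le_antisymm ((fdim_le_dim_fibre f w hw).trans h.le) hwn
  obtain ⟨m, hm, ⟨w', hw', -, hw'm⟩, -⟩ := exists_fibreDimAt_eq f w
  obtain rfl : m = n := by
    have h1 : (m : WithBot ℕ∞) ≤ n := hw'm.ge.trans ((fdim_le_dim_fibre f w' (hw'.trans hw)).trans h.le)
    have h2 : (n : WithBot ℕ∞) ≤ m := hwn.trans ((fdim_le_fibreDimAt f (specializes_refl w)).trans hm.le)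
    exact le_antisymm (by exact_mod_cast h1) (by exact_mod_cast h2)
  obtain ⟨U, hU, W, hW, hWU, hwW, -, k, φ, hk, hφ⟩ := exists_chart f w V₀ (hw.symm ▸ hηV₀)
  obtain rfl : k = m := by exact_mod_cast hk.symm.trans hm
  letI := (f.appLE U W hWU).hom.toAlgebra
  haveI : Algebra.FiniteType Γ(Y, U) Γ(X, W) := RingHom.finiteType_algebraMap.1 (f.finiteType_appLE hU hW hWU)
  have hηU : genericPoint Y ∈ U := hw ▸ hWU hwW
  let p₀ := hU.primeIdealOf ⟨genericPoint Y, hηU⟩
  have hnil : p₀.asIdeal = nilradical Γ(Y, U) := by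
    refine le_antisymm ?_ (nilradical_le_prime _)
    rw [nilradical_eq_sInf]
    refine le_sInf fun p hp => (PrimeSpectrum.le_iff_specializes _ (⟨p, hp⟩ : PrimeSpectrum Γ(Y, U))).mpr
      (hU.fromSpec.isOpenEmbedding.isInducing.specializes_iff.mp ?_)
    rw [show hU.fromSpec p₀ = genericPoint Y from hU.fromSpec_primeIdealOf _]
    exact genericPoint_specializes _
  haveI : (nilradical Γ(Y, U)).IsPrime := hnil ▸ p₀.isPrime
  let q := hW.primeIdealOf ⟨w, hwW⟩
  have hqA : q.asIdeal.under Γ(Y, U) = nilradical Γ(Y, U) := by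
    rw [← hnil]
    have : Spec.map (f.appLE U W hWU) q = p₀ := hU.fromSpec.isOpenEmbedding.injective <| by
      rw [← Scheme.Hom.comp_apply, IsAffineOpen.SpecMap_appLE_fromSpec f hU hW hWU, Scheme.Hom.comp_apply,
        hW.fromSpec_primeIdealOf, hU.fromSpec_primeIdealOf]
      exact hw
    exact congrArg PrimeSpectrum.asIdeal this
  obtain ⟨a, ha, H⟩ := exists_forall_isQFAt φ q.asIdeal hφ hqA ((fdim_chart f hU hW hWU w hwW φ hφ).2.1 hfd)
  refine ⟨Y.basicOpen a, ⟨genericPoint Y, (GenericFinite.mem_basicOpen_iff_notMem hU hηU a).2 (hnil ▸ ha)⟩,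
    fun y hy => ?_⟩
  have hyU : y ∈ U := Y.basicOpen_le a hy
  obtain ⟨Q, hQ, hQp, hQF, hQi⟩ := H (hU.primeIdealOf ⟨y, hyU⟩).asIdeal inferInstance
    ((GenericFinite.mem_basicOpen_iff_notMem hU hyU a).1 hy)
  let z := hW.fromSpec ⟨Q, hQ⟩
  have hzW : z ∈ W := hW.range_fromSpec.le ⟨_, rfl⟩
  have hzQ : hW.primeIdealOf ⟨z, hzW⟩ = ⟨Q, hQ⟩ :=
    hW.fromSpec.isOpenEmbedding.injective (hW.fromSpec_primeIdealOf _)
  have hz : f z = y := by
    rw [← Scheme.Hom.comp_apply, ← IsAffineOpen.SpecMap_appLE_fromSpec f hU hW hWU, Scheme.Hom.comp_apply,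
      show Spec.map (f.appLE U W hWU) ⟨Q, hQ⟩ = hU.primeIdealOf ⟨y, hyU⟩ from PrimeSpectrum.ext hQp]
    exact hU.fromSpec_primeIdealOf _
  have key : ∀ t : PrimeSpectrum Γ(X, W), t = ⟨Q, hQ⟩ →
      IsQFAt φ t.asIdeal ∧ Function.Injective (quotMap φ t.asIdeal) := fun t ht => ht ▸ ⟨hQF, hQi⟩
  obtain ⟨k₁, k₂⟩ := key _ hzQ
  rw [← (fdim_chart f hU hW hWU z hzW φ k₁).2.2 k₂]
  exact fdim_le_dim_fibre f z hz

variable [QuasiCompact f]

/-- Over a non-empty open all fibres have the dimension of the generic one. -/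
theorem exists_dim_fibre_eq (n : ℕ) (h : topologicalKrullDim ↥(f.fiber (genericPoint Y)) = n) :
    ∃ V : Y.Opens, (V : Set Y).Nonempty ∧ ∀ y ∈ V, topologicalKrullDim ↥(f.fiber y) = n := by
  obtain ⟨V₁, hne, hV₁⟩ := exists_le_dim_fibre f n h
  have hmax : ∀ a : Y, a ⤳ genericPoint Y → a = genericPoint Y := fun a ha =>
    (ha.antisymm (genericPoint_specializes a)).eq
  have hnot : ¬ ((n + 1 : ℕ) : WithBot ℕ∞) ≤ (n : WithBot ℕ∞) := by
    intro hc; norm_cast at hc; omega
  obtain ⟨V₂, -, hη, hV₂⟩ := GenericFinite.exists_nhd_disjoint f hmax (isClosed_le_fibreDimAt f (n + 1))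
    fun x hx he => hnot (((setOf_le_dim_eq_image f (n + 1)).ge ⟨x, hx, he⟩).trans h.le)
  refine ⟨V₁ ⊓ V₂, ⟨genericPoint Y, ((genericPoint_spec Y).mem_open_set_iff V₁.2).2 (by simpa using hne), hη⟩,
    fun y hy => ?_⟩
  refine le_antisymm (le_of_forall_nat_le fun m hm => ?_) (hV₁ y hy.1)
  by_contra hc
  have hnm : n + 1 ≤ m := by
    by_contra h'
    exact hc (by exact_mod_cast (show m ≤ n by omega))
  obtain ⟨x, hx, rfl⟩ := (setOf_le_dim_eq_image f (n + 1)).le (le_trans (by exact_mod_cast hnm) hm : ((n + 1 : ℕ) : WithBot ℕ∞) ≤ _)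
  exact hV₂ x hx hy.2

end Groth.Agent.GenericFibreSpread
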