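import Groth.Agent.GenericFibreSpread.Alg
import Groth.Agent.FibreND.Scheme
import Groth.Agent.DimTrdeg.Scheme
import Groth.Agent.S9634

/-!
Affine charts of fibres and spreading out over an irreducible base.
-/

universe u

open AlgebraicGeometry CategoryTheory Limits TensorProduct

namespace Groth.Agent.GenericFibreSpread

variable {X Y : Scheme.{u}} (f : X ⟶ Y)

/-- The chart of a base change along a field-valued point. -/
theorem exists_chartMap {V : Y.Opens} (hV : IsAffineOpen V) {U : X.Opens} (hU : IsAffineOpen U) (h : U ≤ f ⁻¹ᵁ V)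
    (L : Type u) [Field L] [Algebra Γ(Y, V) L] [Algebra Γ(Y, V) Γ(X, U)]
    (halg : algebraMap Γ(Y, V) Γ(X, U) = (f.appLE V U h).hom)
    (s : Spec (CommRingCat.of L) ⟶ Y) (hs : Spec.map (CommRingCat.ofHom (algebraMap Γ(Y, V) L)) ≫ hV.fromSpec = s) :
    ∃ j : Spec (CommRingCat.of (L ⊗[Γ(Y, V)] Γ(X, U))) ⟶ pullback f s, IsOpenImmersion j ∧
      Set.range j = (pullback.fst f s) ⁻¹' U := by
  let α := Spec.map (CommRingCat.ofHom (algebraMap Γ(Y, V) Γ(X, U)))
  let φ := Spec.map (CommRingCat.ofHom (algebraMap Γ(Y, V) L))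
  have hα : α ≫ hV.fromSpec = hU.fromSpec ≫ f := by
    rw [show α = Spec.map (f.appLE V U h) by simp only [α, halg]; rfl]
    exact IsAffineOpen.SpecMap_appLE_fromSpec f hV hU h
  have h1 : IsPullback (pullback.fst α φ) (pullback.snd α φ) (hU.fromSpec ≫ f) s := by
    rw [← hα, ← hs]
    exact ⟨⟨by rw [← Category.assoc, ← Category.assoc, pullback.condition]⟩,
      ⟨PullbackCone.isLimitOfCompMono α φ hV.fromSpec _ (limit.isLimit (cospan α φ))⟩⟩
  have h2 : IsPullback (pullback.snd (pullback.fst f s) hU.fromSpec)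
      (pullback.fst (pullback.fst f s) hU.fromSpec ≫ pullback.snd f s) (hU.fromSpec ≫ f) s :=
    (IsPullback.of_hasPullback (pullback.fst f s) hU.fromSpec).flip.paste_vert (IsPullback.of_hasPullback f s)
  let e : Spec (CommRingCat.of (L ⊗[Γ(Y, V)] Γ(X, U))) ≅ pullback (pullback.fst f s) hU.fromSpec :=
    (pullbackSymmetry α φ ≪≫ pullbackSpecIso Γ(Y, V) L Γ(X, U)).symm ≪≫ h1.isoIsPullback _ _ h2
  refine ⟨e.hom ≫ pullback.fst (pullback.fst f s) hU.fromSpec, inferInstance, ?_⟩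
  rw [show ⇑(e.hom ≫ pullback.fst (pullback.fst f s) hU.fromSpec) =
    ⇑(pullback.fst (pullback.fst f s) hU.fromSpec) ∘ ⇑e.hom from funext fun x => Scheme.Hom.comp_apply _ _ x,
    Set.range_comp, Set.range_eq_univ.2 e.hom.surjective, Set.image_univ, Scheme.Pullback.range_fst,
    hU.range_fromSpec]

theorem nontrivial_tensor_iff_exists_point {V : Y.Opens} (hV : IsAffineOpen V) {U : X.Opens} (hU : IsAffineOpen U)
    (h : U ≤ f ⁻¹ᵁ V) (L : Type u) [Field L] [Algebra Γ(Y, V) L] [Algebra Γ(Y, V) Γ(X, U)]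
    (halg : algebraMap Γ(Y, V) Γ(X, U) = (f.appLE V U h).hom)
    (s : Spec (CommRingCat.of L) ⟶ Y) (hs : Spec.map (CommRingCat.ofHom (algebraMap Γ(Y, V) L)) ≫ hV.fromSpec = s) :
    Nontrivial (L ⊗[Γ(Y, V)] Γ(X, U)) ↔ ∃ z, pullback.fst f s z ∈ U := by
  obtain ⟨j, -, hj⟩ := exists_chartMap f hV hU h L halg s hs
  constructor
  · intro _
    obtain ⟨q⟩ := (inferInstance : Nonempty (PrimeSpectrum (L ⊗[Γ(Y, V)] Γ(X, U))))
    exact ⟨j q, hj.le ⟨q, rfl⟩⟩
  · rintro ⟨z, hz⟩
    obtain ⟨q, -⟩ := hj.ge hz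
    exact PrimeSpectrum.nonempty_iff_nontrivial.1 ⟨q⟩

variable [IrreducibleSpace Y]

/-- A chart around the generic point, with what the algebra needs at the generic and at all points. -/
theorem exists_chart_data :
    ∃ (V : Y.Opens) (hV : IsAffineOpen V) (hη : genericPoint Y ∈ V),
      (∀ x : Y.residueField (genericPoint Y), ∃ a b : Γ(Y, V), (Y.evaluation V _ hη).hom b ≠ 0 ∧
        x * (Y.evaluation V _ hη).hom b = (Y.evaluation V _ hη).hom a) ∧
      (∀ (y : Y) (hy : y ∈ V), RingHom.ker (Y.evaluation V _ hη).hom ≤ RingHom.ker (Y.evaluation V y hy).hom) ∧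
      (∀ (y : Y) (hy : y ∈ V), Spec.map (Y.evaluation V y hy) ≫ hV.fromSpec = Y.fromSpecResidueField y) := by
  obtain ⟨V, hV, -, hη, -⟩ := FibreND.exists_base_chart Y
  refine ⟨V, hV, hη, DimTrdeg.exists_evaluation_fraction hV _ hη, fun y hy a ha => ?_, fun y hy => ?_⟩
  · rw [RingHom.mem_ker] at ha ⊢
    rw [Scheme.evaluation_eq_zero_iff_notMem_basicOpen] at ha ⊢
    exact fun hmem => ha ((genericPoint_specializes y).mem_open (Y.basicOpen a).isOpen hmem)
  · rw [Scheme.fromSpecResidueField, ← hV.fromSpecStalk_eq_fromSpecStalk hy]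
    show Spec.map (Y.presheaf.germ V y hy ≫ Y.residue y) ≫ hV.fromSpec = _
    rw [Spec.map_comp, Category.assoc]
    rfl

variable [LocallyOfFiniteType f] [QuasiCompact f]

/-- Non-reducedness of the generic fibre spreads out. -/
theorem exists_not_isReduced_fibre (h : ¬ IsReduced (f.fiber (genericPoint Y))) :
    ∃ V : Y.Opens, (V : Set Y).Nonempty ∧ ∀ y ∈ V, ¬ IsReduced (f.fiber y) := by
  obtain ⟨V, hV, hη, hfrac, hker, hspec⟩ := exists_chart_data (Y := Y)
  obtain ⟨t, ht, hcov⟩ := FibreND.exists_finite_cover f hV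
  letI : Algebra Γ(Y, V) (Y.residueField (genericPoint Y)) := (Y.evaluation V _ hη).hom.toAlgebra
  obtain ⟨U, hU, hne⟩ : ∃ (U : X.affineOpens) (hU : (U : X.Opens) ≤ f ⁻¹ᵁ V),
      letI := (f.appLE V U hU).hom.toAlgebra
      ¬ _root_.IsReduced (Y.residueField (genericPoint Y) ⊗[Γ(Y, V)] Γ(X, U)) := by
    by_contra hall
    refine h (@isReduced_of_isReduced_stalk _ fun z => ?_)
    have hz : f (f.fiberι _ z) = genericPoint Y := (f.range_fiberι _).le ⟨z, rfl⟩
    obtain ⟨U, hUt, hzU⟩ := hcov (f.fiberι _ z) (hz.symm ▸ hη)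
    letI := (f.appLE V U (ht U hUt)).hom.toAlgebra
    have hred : _root_.IsReduced (Y.residueField (genericPoint Y) ⊗[Γ(Y, V)] Γ(X, U)) := by
      by_contra hc
      exact hall ⟨U, ht U hUt, hc⟩
    obtain ⟨j, hj, hjr⟩ := exists_chartMap f hV U.2 (ht U hUt) _ rfl _ (hspec _ hη)
    obtain ⟨q, rfl⟩ := hjr.ge hzU
    have : IsReduced (Spec (CommRingCat.of (Y.residueField (genericPoint Y) ⊗[Γ(Y, V)] Γ(X, U)))) := inferInstance
    exact isReduced_of_injective (j.stalkMap q).hom (asIso (j.stalkMap q)).commRingCatIsoToRingEquiv.injective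
  letI := (f.appLE V U hU).hom.toAlgebra
  haveI : Algebra.FiniteType Γ(Y, V) Γ(X, U) := f.finiteType_appLE hV U.2 hU
  obtain ⟨c, hc, H⟩ := exists_not_isReduced_spread Γ(Y, V) Γ(X, U) _ hfrac hne
  refine ⟨Y.basicOpen c, ⟨genericPoint Y, (Scheme.evaluation_ne_zero_iff_mem_basicOpen _ _ hη _).1 hc⟩, fun y hy hred => ?_⟩
  have hyV : y ∈ V := Y.basicOpen_le c hy
  letI : Algebra Γ(Y, V) (Y.residueField y) := (Y.evaluation V y hyV).hom.toAlgebra
  obtain ⟨j, hj, -⟩ := exists_chartMap f hV U.2 hU (Y.residueField y) rfl _ (hspec y hyV)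
  have : IsReduced (pullback f (Y.fromSpecResidueField y)) := hred
  have hr : IsReduced (Spec (CommRingCat.of (Y.residueField y ⊗[Γ(Y, V)] Γ(X, U)))) := isReduced_of_isOpenImmersion j
  exact H _ (hker y hyV) ((Scheme.evaluation_ne_zero_iff_mem_basicOpen _ _ hyV _).2 hy)
    ((affine_isReduced_iff _).1 hr)

/-- An affine open meeting the generic fibre meets all fibres over a non-empty open. -/
theorem exists_forall_fibre_meets {W : X.Opens} (hW : ∃ x ∈ W, f x = genericPoint Y) :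
    ∃ V : Y.Opens, (V : Set Y).Nonempty ∧ ∀ y ∈ V, ∃ x ∈ W, f x = y := by
  obtain ⟨V, hV, hη, hfrac, hker, hspec⟩ := exists_chart_data (Y := Y)
  obtain ⟨x, hxW, hx⟩ := hW
  obtain ⟨_, ⟨U, hU, rfl⟩, hxU, hUle⟩ := X.isBasis_affineOpens.exists_subset_of_mem_open
    (show x ∈ W ⊓ f ⁻¹ᵁ V from ⟨hxW, show f x ∈ V from hx ▸ hη⟩) (W ⊓ f ⁻¹ᵁ V).isOpen
  have hUV : U ≤ f ⁻¹ᵁ V := fun z hz => (hUle hz).2
  letI := (f.appLE V U hUV).hom.toAlgebra
  haveI : Algebra.FiniteType Γ(Y, V) Γ(X, U) := f.finiteType_appLE hV hU hUV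
  letI : Algebra Γ(Y, V) (Y.residueField (genericPoint Y)) := (Y.evaluation V _ hη).hom.toAlgebra
  have hnt : Nontrivial (Y.residueField (genericPoint Y) ⊗[Γ(Y, V)] Γ(X, U)) := by
    refine (nontrivial_tensor_iff_exists_point f hV hU hUV _ rfl _ (hspec _ hη)).2 ?_
    obtain ⟨z, rfl⟩ := (f.range_fiberι (genericPoint Y)).ge hx
    exact ⟨z, hxU⟩
  obtain ⟨c, hc, H⟩ := exists_nontrivial_spread Γ(Y, V) Γ(X, U) _ hfrac hnt
  refine ⟨Y.basicOpen c, ⟨genericPoint Y, (Scheme.evaluation_ne_zero_iff_mem_basicOpen _ _ hη _).1 hc⟩, fun y hy => ?_⟩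
  have hyV : y ∈ V := Y.basicOpen_le c hy
  letI : Algebra Γ(Y, V) (Y.residueField y) := (Y.evaluation V y hyV).hom.toAlgebra
  obtain ⟨z, hz⟩ := (nontrivial_tensor_iff_exists_point f hV hU hUV (Y.residueField y) rfl _ (hspec y hyV)).1
    (H _ (hker y hyV) ((Scheme.evaluation_ne_zero_iff_mem_basicOpen _ _ hyV _).2 hy))
  exact ⟨_, (hUle hz).1, (f.range_fiberι y).le ⟨z, rfl⟩⟩

/-- Geometric non-reducedness of the generic fibre spreads out. -/
theorem exists_not_geometricallyReduced_fibre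
    (h : ¬ GeometricallyReduced (f.fiberToSpecResidueField (genericPoint Y))) :
    ∃ V : Y.Opens, (V : Set Y).Nonempty ∧ ∀ y ∈ V, ¬ GeometricallyReduced (f.fiberToSpecResidueField y) := by
  obtain ⟨V, hV, hη, hfrac, hker, hspec⟩ := exists_chart_data (Y := Y)
  obtain ⟨t, ht, hcov⟩ := FibreND.exists_finite_cover f hV
  let η := genericPoint Y
  letI : Algebra Γ(Y, V) (Y.residueField η) := (Y.evaluation V _ hη).hom.toAlgebra
  obtain ⟨U, hU, hne⟩ : ∃ (U : X.affineOpens) (hU : (U : X.Opens) ≤ f ⁻¹ᵁ V),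
      letI := (f.appLE V U hU).hom.toAlgebra
      ∃ (E : Type u) (_ : Field E) (_ : Algebra (Y.residueField η) E),
        ¬ _root_.IsReduced (E ⊗[Y.residueField η] (Y.residueField η ⊗[Γ(Y, V)] Γ(X, U))) := by
    by_contra hall
    refine h ⟨geometrically_iff_of_isClosedUnderIsomorphisms.mpr fun E _ y' => ?_⟩
    obtain ⟨ψ, rfl⟩ := Spec.map_surjective y'
    letI : Algebra (Y.residueField η) E := ψ.hom.toAlgebra
    letI : Algebra Γ(Y, V) E := ((algebraMap (Y.residueField η) E).comp (algebraMap Γ(Y, V) (Y.residueField η))).toAlgebra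
    haveI : IsScalarTower Γ(Y, V) (Y.residueField η) E := IsScalarTower.of_algebraMap_eq fun _ => rfl
    have hs : Spec.map (CommRingCat.ofHom (algebraMap Γ(Y, V) E)) ≫ hV.fromSpec = Spec.map ψ ≫ Y.fromSpecResidueField η := by
      rw [← hspec η hη, ← Category.assoc, ← Spec.map_comp]
      rfl
    let e := pullbackLeftPullbackSndIso f (Y.fromSpecResidueField η) (Spec.map ψ)
    suffices IsReduced (pullback f (Spec.map ψ ≫ Y.fromSpecResidueField η)) from isReduced_of_isOpenImmersion e.hom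
    refine @isReduced_of_isReduced_stalk _ fun z => ?_
    have hz : f (pullback.fst f (Spec.map ψ ≫ Y.fromSpecResidueField η) z) = η := by
      rw [← Scheme.Hom.comp_apply, pullback.condition, Scheme.Hom.comp_apply, Scheme.Hom.comp_apply]
      exact Scheme.fromSpecResidueField_apply _ _
    obtain ⟨U, hUt, hzU⟩ := hcov _ (show f _ ∈ V from hz.symm ▸ (show η ∈ V from hη))
    letI := (f.appLE V U (ht U hUt)).hom.toAlgebra
    have hred : _root_.IsReduced (E ⊗[Γ(Y, V)] Γ(X, U)) := by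
      by_contra hc
      exact hall ⟨U, ht U hUt, E, inferInstance, inferInstance, fun _ => hc (isReduced_of_injective
        (Algebra.TensorProduct.cancelBaseChange Γ(Y, V) (Y.residueField η) (Y.residueField η) E Γ(X, U)).symm
        (AlgEquiv.injective _))⟩
    obtain ⟨j, hj, hjr⟩ := exists_chartMap f hV U.2 (ht U hUt) E rfl _ hs
    obtain ⟨q, rfl⟩ := hjr.ge hzU
    have : IsReduced (Spec (CommRingCat.of (E ⊗[Γ(Y, V)] Γ(X, U)))) := inferInstance
    exact isReduced_of_injective (j.stalkMap q).hom (asIso (j.stalkMap q)).commRingCatIsoToRingEquiv.injective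
  letI := (f.appLE V U hU).hom.toAlgebra
  haveI : Algebra.FiniteType Γ(Y, V) Γ(X, U) := f.finiteType_appLE hV U.2 hU
  obtain ⟨E, _, _, hE⟩ := hne
  obtain ⟨K', _, _, _, hK'⟩ : ∃ (K' : Type u) (_ : Field K') (_ : Algebra (Y.residueField η) K')
      (_ : FiniteDimensional (Y.residueField η) K'),
      ¬ _root_.IsReduced (K' ⊗[Y.residueField η] (Y.residueField η ⊗[Γ(Y, V)] Γ(X, U))) := by
    by_contra hall
    refine hE ((show ∀ (E : Type u) [Field E] [Algebra (Y.residueField η) E],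
        _root_.IsReduced (E ⊗[Y.residueField η] (Y.residueField η ⊗[Γ(Y, V)] Γ(X, U))) from
      ((Groth.Agent.S9634.result (k := Y.residueField η) (S := Y.residueField η ⊗[Γ(Y, V)] Γ(X, U))).out 0 2).1 ?_) E)
    intro K' _ _ _ _
    by_contra hc
    exact hall ⟨K', inferInstance, inferInstance, inferInstance, hc⟩
  letI : Algebra Γ(Y, V) K' := ((algebraMap (Y.residueField η) K').comp (algebraMap Γ(Y, V) (Y.residueField η))).toAlgebra
  haveI : IsScalarTower Γ(Y, V) (Y.residueField η) K' := IsScalarTower.of_algebraMap_eq fun _ => rfl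
  obtain ⟨c, hc, H⟩ := exists_not_isReduced_ext_spread Γ(Y, V) Γ(X, U) (Y.residueField η) hfrac K' fun _ =>
    hK' (isReduced_of_injective
      (Algebra.TensorProduct.cancelBaseChange Γ(Y, V) (Y.residueField η) (Y.residueField η) K' Γ(X, U)) (AlgEquiv.injective _))
  refine ⟨Y.basicOpen c, ⟨η, (Scheme.evaluation_ne_zero_iff_mem_basicOpen _ _ hη _).1 hc⟩, fun y hy hred => ?_⟩
  have hyV : y ∈ V := Y.basicOpen_le c hy
  letI : Algebra Γ(Y, V) (Y.residueField y) := (Y.evaluation V y hyV).hom.toAlgebra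
  obtain ⟨L', _, _, _, _, hL'⟩ := H (Y.residueField y) (hker y hyV)
    ((Scheme.evaluation_ne_zero_iff_mem_basicOpen _ _ hyV _).2 hy)
  let ψ : Y.residueField y ⟶ CommRingCat.of L' := CommRingCat.ofHom (algebraMap (Y.residueField y) L')
  have hs : Spec.map (CommRingCat.ofHom (algebraMap Γ(Y, V) L')) ≫ hV.fromSpec = Spec.map ψ ≫ Y.fromSpecResidueField y := by
    rw [← hspec y hyV, ← Category.assoc, ← Spec.map_comp, IsScalarTower.algebraMap_eq Γ(Y, V) (Y.residueField y) L']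
    rfl
  obtain ⟨j, hj, -⟩ := exists_chartMap f hV U.2 hU L' rfl _ hs
  have h1 : IsReduced (pullback (f.fiberToSpecResidueField y) (Spec.map ψ)) :=
    GeometricallyReduced.geometrically_isReduced _ _ _ (IsPullback.of_hasPullback _ _)
  have h2 : IsReduced (pullback f (Spec.map ψ ≫ Y.fromSpecResidueField y)) :=
    @isReduced_of_isOpenImmersion _ _ (pullbackLeftPullbackSndIso f (Y.fromSpecResidueField y) (Spec.map ψ)).inv _ h1
  have hr : IsReduced (Spec (CommRingCat.of (L' ⊗[Γ(Y, V)] Γ(X, U)))) := isReduced_of_isOpenImmersion j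
  exact hL' ((affine_isReduced_iff _).1 hr)

end Groth.Agent.GenericFibreSpread
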