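import Groth.Agent.GenericFibreSpread.RedSpread
import Groth.Agent.GenericFibreSpread.Chart

/-!
Geometric reducedness of the generic fibre spreads out, for schemes.
-/

universe u

open AlgebraicGeometry CategoryTheory Limits TensorProduct

namespace Groth.Agent.GenericFibreSpread

/-- The quotient model form of the algebraic statement. -/
theorem exists_forall_isReduced_fraction (R B K : Type u) [CommRing R] [CommRing B] [Field K] [Algebra R B]
    [Algebra.FiniteType R B] [Algebra R K]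
    (hfrac : ∀ x : K, ∃ a b : R, algebraMap R K b ≠ 0 ∧ x * algebraMap R K b = algebraMap R K a)
    [Algebra.IsGeometricallyReduced K (K ⊗[R] B)] :
    ∃ c : R, algebraMap R K c ≠ 0 ∧ ∀ (L : Type u) [Field L] [Algebra R L],
      RingHom.ker (algebraMap R K) ≤ RingHom.ker (algebraMap R L) → algebraMap R L c ≠ 0 →
        _root_.IsReduced (L ⊗[R] B) := by
  obtain ⟨D, _, _, _, _, _, _, hsurj, hD⟩ := exists_domain_model R K hfrac
  haveI : Algebra.IsGeometricallyReduced K (K ⊗[D] (D ⊗[R] B)) :=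
    Algebra.IsGeometricallyReduced.of_injective (Algebra.TensorProduct.cancelBaseChange R D K K B).toAlgHom
      (Algebra.TensorProduct.cancelBaseChange R D K K B).injective
  obtain ⟨c', hc', H⟩ := exists_forall_isReduced D (D ⊗[R] B) K
  obtain ⟨c, rfl⟩ := hsurj c'
  refine ⟨c, ?_, fun L _ _ hle hc => ?_⟩
  · rw [IsScalarTower.algebraMap_apply R D K]
    exact (map_ne_zero_iff _ (IsFractionRing.injective D K)).2 hc'
  · obtain ⟨_, _⟩ := hD L hle
    have := H L (by rwa [← IsScalarTower.algebraMap_apply R D L])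
    exact isReduced_of_injective (Algebra.TensorProduct.cancelBaseChange R D L L B).symm
      (AlgEquiv.injective _)

variable {X Y : Scheme.{u}} (f : X ⟶ Y) [IrreducibleSpace Y] [LocallyOfFiniteType f] [QuasiCompact f]

/-- Geometric reducedness of the generic fibre spreads out. -/
theorem exists_geometricallyReduced_restrict
    (h : GeometricallyReduced (f.fiberToSpecResidueField (genericPoint Y))) :
    ∃ V : Y.Opens, (V : Set Y).Nonempty ∧ GeometricallyReduced (f ∣_ V) := by
  classical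
  obtain ⟨V₀, hV₀, hη, hfrac, hker, hspec⟩ := exists_chart_data (Y := Y)
  obtain ⟨t, ht, hcov⟩ := FibreND.exists_finite_cover f hV₀
  let η := genericPoint Y
  let K := Y.residueField η
  letI : Algebra Γ(Y, V₀) K := (Y.evaluation V₀ η hη).hom.toAlgebra
  have key : ∀ U : t, ∃ c : Γ(Y, V₀), algebraMap Γ(Y, V₀) K c ≠ 0 ∧
      ∀ (L : Type u) [Field L] [Algebra Γ(Y, V₀) L],
        RingHom.ker (algebraMap Γ(Y, V₀) K) ≤ RingHom.ker (algebraMap Γ(Y, V₀) L) → algebraMap Γ(Y, V₀) L c ≠ 0 →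
          letI := (f.appLE V₀ U.1 (ht _ U.2)).hom.toAlgebra
          _root_.IsReduced (L ⊗[Γ(Y, V₀)] Γ(X, U.1)) := by
    intro U
    letI := (f.appLE V₀ U.1 (ht _ U.2)).hom.toAlgebra
    haveI : Algebra.FiniteType Γ(Y, V₀) Γ(X, U.1) := f.finiteType_appLE hV₀ U.1.2 (ht _ U.2)
    let E := AlgebraicClosure K
    haveI : IsScalarTower Γ(Y, V₀) K E := inferInstance
    let ψ : Y.residueField η ⟶ CommRingCat.of E := CommRingCat.ofHom (algebraMap K E)
    have hs : Spec.map (CommRingCat.ofHom (algebraMap Γ(Y, V₀) E)) ≫ hV₀.fromSpec = Spec.map ψ ≫ Y.fromSpecResidueField η := by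
      rw [← hspec η hη, ← Category.assoc, ← Spec.map_comp, IsScalarTower.algebraMap_eq Γ(Y, V₀) K E]
      rfl
    obtain ⟨j, hj, -⟩ := exists_chartMap f hV₀ U.1.2 (ht _ U.2) E rfl _ hs
    have hr0 : IsReduced (pullback (pullback.snd f (Y.fromSpecResidueField η)) (Spec.map ψ)) :=
      pullback_of_geometrically h.geometrically_isReduced _ _
    haveI : IsReduced (pullback f (Spec.map ψ ≫ Y.fromSpecResidueField η)) :=
      isReduced_of_isOpenImmersion (pullbackLeftPullbackSndIso f (Y.fromSpecResidueField η) (Spec.map ψ)).inv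
    have hE : _root_.IsReduced (E ⊗[Γ(Y, V₀)] Γ(X, U.1)) := (affine_isReduced_iff _).1 (isReduced_of_isOpenImmersion j)
    haveI : Algebra.IsGeometricallyReduced K (K ⊗[Γ(Y, V₀)] Γ(X, U.1)) :=
      (Algebra.isGeometricallyReduced_field_iff _ _).2
        (isReduced_of_injective (Algebra.TensorProduct.cancelBaseChange Γ(Y, V₀) K K E Γ(X, U.1))
          (AlgEquiv.injective _))
    exact exists_forall_isReduced_fraction Γ(Y, V₀) Γ(X, U.1) K hfrac
  choose c hc H using key
  let b := ∏ U, c U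
  have hb : algebraMap Γ(Y, V₀) K b ≠ 0 := by
    rw [map_prod]; exact Finset.prod_ne_zero_iff.2 fun U _ => hc U
  let V := Y.basicOpen b
  refine ⟨V, ⟨η, (Scheme.evaluation_ne_zero_iff_mem_basicOpen _ _ hη _).1 hb⟩,
    ⟨geometrically_iff_of_isClosedUnderIsomorphisms.mpr fun E _ y => ?_⟩⟩
  suffices IsReduced (pullback f (y ≫ V.ι)) by
    let e := (IsPullback.of_hasPullback (f ∣_ V) y).paste_horiz (isPullback_morphismRestrict f V).flip
    exact isReduced_of_isOpenImmersion e.isoPullback.hom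
  obtain ⟨⟨z, φ⟩, hz⟩ := (Scheme.SpecToEquivOfField E Y).symm.surjective (y ≫ V.ι)
  change Spec.map φ ≫ Y.fromSpecResidueField z = y ≫ V.ι at hz
  have hzV : z ∈ V := by
    have h1 := congrArg (fun s : Spec (CommRingCat.of E) ⟶ Y => s (IsLocalRing.closedPoint E)) hz
    simp only [Scheme.Hom.comp_apply, Scheme.fromSpecResidueField_apply] at h1
    rw [h1]
    exact (y (IsLocalRing.closedPoint E)).2
  have hzV₀ : z ∈ V₀ := Y.basicOpen_le b hzV
  rw [← hz]
  letI : Algebra Γ(Y, V₀) E := (φ.hom.comp (Y.evaluation V₀ z hzV₀).hom).toAlgebra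
  have hs : Spec.map (CommRingCat.ofHom (algebraMap Γ(Y, V₀) E)) ≫ hV₀.fromSpec = Spec.map φ ≫ Y.fromSpecResidueField z := by
    rw [← hspec z hzV₀, ← Category.assoc, ← Spec.map_comp]
    rfl
  refine @isReduced_of_isReduced_stalk _ fun w => ?_
  have hw : f (pullback.fst f (Spec.map φ ≫ Y.fromSpecResidueField z) w) = z := by
    rw [← Scheme.Hom.comp_apply, pullback.condition, Scheme.Hom.comp_apply, Scheme.Hom.comp_apply]
    exact Scheme.fromSpecResidueField_apply _ _
  obtain ⟨U, hUt, hwU⟩ := hcov _ (show f _ ∈ V₀ from hw.symm ▸ hzV₀)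
  letI := (f.appLE V₀ U (ht U hUt)).hom.toAlgebra
  obtain ⟨j, hj, hjr⟩ := exists_chartMap f hV₀ U.2 (ht U hUt) E rfl _ hs
  obtain ⟨q, rfl⟩ := hjr.ge hwU
  have hne : algebraMap Γ(Y, V₀) E (c ⟨U, hUt⟩) ≠ 0 := by
    refine (map_ne_zero_iff _ φ.hom.injective).2 ?_
    have h1 := (Scheme.evaluation_ne_zero_iff_mem_basicOpen _ _ hzV₀ b).2 hzV
    rw [map_prod] at h1
    exact Finset.prod_ne_zero_iff.1 h1 ⟨U, hUt⟩ (Finset.mem_univ _)
  have hle : RingHom.ker (algebraMap Γ(Y, V₀) K) ≤ RingHom.ker (algebraMap Γ(Y, V₀) E) := fun a ha => by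
    have := hker z hzV₀ ha
    rw [RingHom.mem_ker] at this ⊢
    exact (congrArg φ.hom this).trans (map_zero _)
  have hred : _root_.IsReduced (E ⊗[Γ(Y, V₀)] Γ(X, U)) := H ⟨U, hUt⟩ E hle hne
  have : IsReduced (Spec (CommRingCat.of (E ⊗[Γ(Y, V₀)] Γ(X, U)))) := inferInstance
  exact isReduced_of_injective (j.stalkMap q).hom (asIso (j.stalkMap q)).commRingCatIsoToRingEquiv.injective

end Groth.Agent.GenericFibreSpread
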