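import Groth.Agent.GenFree.Package
import Groth.Agent.FibreND.Basic

/-!
Injectivity of a map of modules spreads out from the generic point of a domain.
-/

universe u

open TensorProduct Groth.GenFree

namespace Groth.Agent.GenericFibreSpread

/-- If the generic fibre of `φ` is injective and source and cokernel are free at `a`, so are the fibres where
`a` does not vanish. -/
theorem injective_lTensor_of_freeAt {D : Type u} [CommRing D] [IsDomain D] (K : Type u) [Field K] [Algebra D K]
    [IsFractionRing D K] {M N : Type u} [AddCommGroup M] [Module D M] [AddCommGroup N] [Module D N] (φ : M →ₗ[D] N)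
    (hK : Function.Injective (φ.lTensor K)) {a : D} (hM : FreeAt a M)
    (hT : FreeAt a (N ⧸ LinearMap.range φ)) (L : Type u) [Field L] [Algebra D L] (hL : algebraMap D L a ≠ 0) :
    Function.Injective (φ.lTensor L) := by
  classical
  let Da := Localization.Away a
  let ρ : Da →+* L := IsLocalization.Away.lift (g := algebraMap D L) a hL.isUnit
  letI : Algebra Da L := ρ.toAlgebra
  haveI : IsScalarTower D Da L :=
    IsScalarTower.of_algebraMap_eq fun d => (IsLocalization.Away.lift_eq a hL.isUnit d).symm
  let q := (LinearMap.range φ).mkQ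
  let φ' : (Da ⊗[D] M) →ₗ[Da] (Da ⊗[D] N) := φ.baseChange Da
  let q' : (Da ⊗[D] N) →ₗ[Da] (Da ⊗[D] (N ⧸ LinearMap.range φ)) := q.baseChange Da
  have hinj : Function.Injective φ' := by
    refine (injective_iff_map_eq_zero φ').2 fun z hz => ?_
    haveI : IsLocalizedModule (Submonoid.powers a) (TensorProduct.mk D Da M 1) := isLocalizedModule_mk _ _ _
    haveI : IsLocalizedModule (Submonoid.powers a) (TensorProduct.mk D Da N 1) := isLocalizedModule_mk _ _ _
    obtain ⟨⟨m, ⟨_, n, rfl⟩⟩, hm⟩ := IsLocalizedModule.surj (Submonoid.powers a) (TensorProduct.mk D Da M 1) z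
    replace hm : a ^ n • z = (1 : Da) ⊗ₜ[D] m := hm
    have h1 : (1 : Da) ⊗ₜ[D] φ m = 0 := by
      have h0 := congrArg φ' hm
      rw [LinearMap.map_smul_of_tower, hz, smul_zero] at h0
      exact h0.symm
    obtain ⟨⟨_, i, rfl⟩, hi⟩ := (IsLocalizedModule.eq_zero_iff (Submonoid.powers a) (TensorProduct.mk D Da N 1)).1 h1
    replace hi : φ (a ^ i • m) = 0 := by rw [map_smul]; exact hi
    have h2 : (1 : K) ⊗ₜ[D] (a ^ i • m) = 0 :=
      hK (by rw [LinearMap.lTensor_tmul, hi, tmul_zero, map_zero])
    haveI : IsLocalizedModule (nonZeroDivisors D) (TensorProduct.mk D K M 1) := isLocalizedModule_mk _ _ _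
    obtain ⟨⟨d, hd⟩, hdm⟩ := (IsLocalizedModule.eq_zero_iff (nonZeroDivisors D) (TensorProduct.mk D K M 1)).1 h2
    obtain ⟨j, hj⟩ := FibreND.torsion_of_freeAt hM (nonZeroDivisors.ne_zero hd) (m := a ^ i • m) hdm
    have hu : IsUnit (algebraMap D Da (a ^ (j + i + n))) := by
      rw [map_pow]; exact (IsLocalization.Away.algebraMap_isUnit a).pow _
    refine hu.smul_eq_zero.1 ?_
    rw [algebraMap_smul, pow_add, pow_add, mul_smul, hm, mul_smul, ← tmul_smul, ← tmul_smul, hj, tmul_zero]
  have hex : Function.Exact φ' q' := by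
    intro x
    exact (lTensor_exact Da (LinearMap.exact_map_mkQ_range φ) (Submodule.mkQ_surjective _)) x
  haveI : Module.Free Da (Da ⊗[D] (N ⧸ LinearMap.range φ)) := free_tensor dvd_rfl hT
  obtain ⟨s, hs⟩ := Module.projective_lifting_property q' LinearMap.id
    (LinearMap.lTensor_surjective Da (Submodule.mkQ_surjective _))
  let e := LinearEquiv.ofInjective φ' hinj
  let p : (Da ⊗[D] N) →ₗ[Da] LinearMap.range φ' := (LinearMap.id - s.comp q').codRestrict _ fun x =>
    (hex _).1 (by
      rw [LinearMap.sub_apply, map_sub, LinearMap.comp_apply]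
      exact sub_eq_zero.2 (LinearMap.congr_fun hs (q' x)).symm)
  let r : (Da ⊗[D] N) →ₗ[Da] (Da ⊗[D] M) := e.symm.toLinearMap.comp p
  have hr : ∀ m, r (φ' m) = m := fun m => by
    refine e.injective ?_
    simp only [r, LinearMap.comp_apply, LinearEquiv.coe_coe, LinearEquiv.apply_symm_apply]
    refine Subtype.ext ?_
    show φ' m - s (q' (φ' m)) = φ' m
    rw [(hex _).2 ⟨m, rfl⟩, map_zero, sub_zero]
  have hinjL : Function.Injective (φ'.lTensor L) := Function.LeftInverse.injective (g := r.lTensor L) fun z => by
    rw [← LinearMap.comp_apply, ← LinearMap.lTensor_comp, show r.comp φ' = LinearMap.id from LinearMap.ext hr,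
      LinearMap.lTensor_id, LinearMap.id_apply]
  let eM := AlgebraTensorModule.cancelBaseChange D Da Da L M
  let eN := AlgebraTensorModule.cancelBaseChange D Da Da L N
  have hcomm : ∀ z, φ.lTensor L (eM z) = eN (φ'.lTensor L z) := by
    intro z
    induction z using TensorProduct.induction_on with
    | zero => simp
    | add x y hx hy => simp only [map_add, hx, hy]
    | tmul l y =>
      induction y using TensorProduct.induction_on with
      | zero => simp
      | add x y hx hy => simp only [tmul_add, map_add, hx, hy]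
      | tmul d m => simp [φ', eM, eN]
  intro x y hxy
  obtain ⟨x, rfl⟩ := eM.surjective x
  obtain ⟨y, rfl⟩ := eM.surjective y
  rw [hcomm, hcomm] at hxy
  rw [hinjL (eN.injective hxy)]

/-- A map that is injective at the generic point is injective over an open set. -/
theorem exists_forall_injective_lTensor (D : Type u) [CommRing D] [IsDomain D] (B : Type u) [CommRing B] [Algebra D B]
    [Algebra.FiniteType D B] (K : Type u) [Field K] [Algebra D K] [IsFractionRing D K] {N : Type u} [AddCommGroup N]
    [Module B N] [Module D N] [IsScalarTower D B N] [Module.Finite B N] (φ : B →ₗ[B] N)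
    (hK : Function.Injective ((φ.restrictScalars D).lTensor K)) :
    ∃ c : D, c ≠ 0 ∧ ∀ (L : Type u) [Field L] [Algebra D L], algebraMap D L c ≠ 0 →
      Function.Injective ((φ.restrictScalars D).lTensor L) := by
  obtain ⟨a, ha, hB, -⟩ := exists_algebra_freeAt D B
  obtain ⟨a', ha', hT, -⟩ := finitePresentation_localizedModule (R := D) (S := B) (N ⧸ LinearMap.range φ)
  refine ⟨a * a', mul_ne_zero ha ha', fun L _ _ hL => injective_lTensor_of_freeAt K _ hK (hB.of_dvd ⟨a', rfl⟩) ?_ L hL⟩
  exact (hT.of_dvd ⟨a, mul_comm _ _⟩).of_linearEquiv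
    ((Submodule.Quotient.restrictScalarsEquiv D (LinearMap.range φ)).symm ≪≫ₗ
      Submodule.quotEquivOfEq _ _ (by ext; simp))

end Groth.Agent.GenericFibreSpread
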