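import Groth.Agent.GenericFibreSpread.Chart
import Groth.Agent.FibDim.MaxPoints

/-!
Lower bounds for the numbers of irreducible and connected components of nearby fibres.
-/

universe u

open AlgebraicGeometry CategoryTheory Limits Topology

namespace Groth.Agent.GenericFibreSpread

variable {X Y : Scheme.{u}} (f : X ⟶ Y) [IrreducibleSpace Y] [LocallyOfFiniteType f] [QuasiCompact f]

theorem exists_le_irreducibleComponents (n : ℕ)
    (h : (irreducibleComponents ↥(f.fiber (genericPoint Y))).encard = n) :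
    ∃ V : Y.Opens, (V : Set Y).Nonempty ∧ ∀ y ∈ V, (n : ℕ∞) ≤ (irreducibleComponents ↥(f.fiber y)).encard := by
  classical
  let η := genericPoint Y
  let ι := f.fiberι η
  have hfin : (irreducibleComponents ↥(f.fiber η)).Finite := Set.encard_ne_top_iff.1 (by rw [h]; exact ENat.natCast_ne_top n)
  choose g hg hgmax using fun C : ↥(irreducibleComponents ↥(f.fiber η)) => FibDim.exists_isMax'_component C.2
  have hgi : ∀ C D, g D ⤳ g C → C = D := fun C D hs => Subtype.ext (by
    rw [← hg C, ← hg D, hgmax C _ hs])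
  have hW : ∀ C, ∃ W : X.Opens, ι (g C) ∈ W ∧ ∀ D, D ≠ C → ι (g D) ∉ W := by
    intro C
    refine ⟨⟨(⋃ D ∈ {D | D ≠ C}, closure {ι (g D)})ᶜ, ?_⟩, ?_, ?_⟩
    · have := hfin.to_subtype
      exact ((Set.toFinite _).isClosed_biUnion fun D _ => isClosed_closure).isOpen_compl
    · intro hmem
      obtain ⟨D, hD, hmem⟩ := Set.mem_iUnion₂.1 hmem
      exact hD (hgi C D (ι.isEmbedding.isInducing.specializes_iff.1 (specializes_iff_mem_closure.2 hmem))).symm
    · intro D hD hmem
      exact hmem (Set.mem_iUnion₂.2 ⟨D, hD, subset_closure rfl⟩)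
  choose W hWmem hWnot using hW
  obtain ⟨V₀, hV₀, H₀⟩ := FibreND.exists_generization f
  choose V hVne HV using fun C => exists_forall_fibre_meets f (W := W C) ⟨_, hWmem C, (f.range_fiberι η).le ⟨g C, rfl⟩⟩
  have := hfin.fintype
  have hdense : ∀ {O : Y.Opens}, (O : Set Y).Nonempty → η ∈ O := fun hO => by
    obtain ⟨y, hy⟩ := hO
    exact (genericPoint_specializes y).mem_open (TopologicalSpace.Opens.isOpen _) hy
  refine ⟨V₀ ⊓ Finset.univ.inf V, ⟨η, hdense hV₀, ?_⟩, fun y hy => ?_⟩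
  · rw [TopologicalSpace.Opens.coe_finset_inf, Finset.inf_set_eq_iInter]
    exact Set.mem_iInter₂.2 fun C _ => hdense (hVne C)
  · obtain ⟨hy₀, hy⟩ := hy
    have hpt : ∀ C, ∃ z : f.fiber y, FibDim.IsMax' z ∧ f.fiberι y z ∈ W C := fun C => by
      obtain ⟨x, hxW, hx⟩ := HV C y (Finset.inf_le (f := V) (Finset.mem_univ C) hy)
      obtain ⟨z, rfl⟩ := (f.range_fiberι y).ge hx
      obtain ⟨m, hmz, hm⟩ := FibDim.exists_isMax'_specializes z
      exact ⟨m, hm, (hmz.map (f.fiberι y).continuous).mem_open (W C).isOpen hxW⟩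
    choose z hz hzW using hpt
    have hinj : Function.Injective fun C => (⟨closure {z C}, FibDim.closure_mem_components (hz C)⟩ :
        ↥(irreducibleComponents ↥(f.fiber y))) := by
      intro C D hCD
      have hzz : z C = z D := ((specializes_iff_closure_subset.2 (Subtype.ext_iff.1 hCD).ge).antisymm
        (specializes_iff_closure_subset.2 (Subtype.ext_iff.1 hCD).le)).eq
      obtain ⟨x', hx', hsp⟩ := H₀ (f.fiberι y (z C)) (by
        rw [show f (f.fiberι y (z C)) = y from (f.range_fiberι y).le ⟨_, rfl⟩]; exact hy₀)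
      obtain ⟨w, rfl⟩ := (f.range_fiberι η).ge hx'
      obtain ⟨m, hmw, hm⟩ := FibDim.exists_isMax'_specializes w
      obtain ⟨K, hK⟩ : ∃ K, g K = m := by
        let K : ↥(irreducibleComponents ↥(f.fiber η)) := ⟨_, FibDim.closure_mem_components hm⟩
        exact ⟨K, ((specializes_iff_closure_subset.2 (hg K).ge).antisymm (specializes_iff_closure_subset.2 (hg K).le)).eq⟩
      have hs := (hmw.map ι.continuous).trans hsp
      rw [← hK] at hs
      have e1 : K = C := by_contra fun hne => hWnot C K hne (hs.mem_open (W C).isOpen (hzW C))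
      have e2 : K = D := by_contra fun hne => hWnot D K hne ((hzz ▸ hs).mem_open (W D).isOpen (hzW D))
      exact e1.symm.trans e2
    rw [← h]
    exact ENat.card_le_card_of_injective hinj

theorem exists_le_connectedComponents (n : ℕ)
    (h : ENat.card (_root_.ConnectedComponents ↥(f.fiber (genericPoint Y))) = n) :
    ∃ V : Y.Opens, (V : Set Y).Nonempty ∧ ∀ y ∈ V, (n : ℕ∞) ≤ ENat.card (_root_.ConnectedComponents ↥(f.fiber y)) := by
  classical
  let η := genericPoint Y
  let ι := f.fiberι η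
  have hfinite : Finite (_root_.ConnectedComponents ↥(f.fiber η)) := ENat.card_lt_top.1 (by rw [h]; exact ENat.natCast_lt_top n)
  have := Fintype.ofFinite (_root_.ConnectedComponents ↥(f.fiber η))
  let mk : ↥(f.fiber η) → _root_.ConnectedComponents ↥(f.fiber η) := ConnectedComponents.mk
  have hmkc : Continuous mk := ConnectedComponents.continuous_coe
  have hT1 : ∀ c : _root_.ConnectedComponents ↥(f.fiber η), IsClosed (mk ⁻¹' {c}) := fun c => by
    obtain ⟨x, rfl⟩ := ConnectedComponents.surjective_coe c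
    rw [connectedComponents_preimage_singleton]
    exact isClosed_connectedComponent
  have hO : ∀ c : _root_.ConnectedComponents ↥(f.fiber η), IsOpen (mk ⁻¹' {c}) := fun c => by
    have : mk ⁻¹' {c} = (⋃ d ∈ {d | d ≠ c}, mk ⁻¹' {d})ᶜ := by
      ext x
      simp only [Set.mem_preimage, Set.mem_singleton_iff, Set.mem_compl_iff, Set.mem_iUnion, Set.mem_ofPred_eq, not_exists]
      exact ⟨fun hx i hi hxi => hi (hxi.symm.trans hx), fun hx => by_contra fun hne => hx _ hne rfl⟩
    rw [this]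
    exact ((Set.toFinite _).isClosed_biUnion fun d _ => hT1 d).isOpen_compl
  let T : _root_.ConnectedComponents ↥(f.fiber η) → Set X := fun c => closure (ι '' (mk ⁻¹' {c}))
  have hTgen : ∀ c (w : ↥(f.fiber η)), ι w ∈ T c → mk w = c := fun c w hw => by
    have : w ∈ closure (mk ⁻¹' {c}) := by
      rw [ι.isEmbedding.isInducing.closure_eq_preimage_closure_image]; exact hw
    rwa [(hT1 c).closure_eq] at this
  obtain ⟨V₀, hV₀, H₀⟩ := FibreND.exists_generization f
  have hdis : ∀ p : {p : _root_.ConnectedComponents ↥(f.fiber η) × _root_.ConnectedComponents ↥(f.fiber η) // p.1 ≠ p.2},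
      ∃ V : Y.Opens, (V : Set Y).Nonempty ∧ ∀ x, f x ∈ V → x ∈ T p.1.1 → x ∈ T p.1.2 → False := by
    intro p
    let I := Scheme.IdealSheafData.vanishingIdeal (X := X) ⟨T p.1.1 ∩ T p.1.2, isClosed_closure.inter isClosed_closure⟩
    obtain ⟨V, hV, H⟩ := FibreND.exists_generization (I.subschemeι ≫ f)
    refine ⟨V, hV, fun x hx h1 h2 => ?_⟩
    have hr : Set.range I.subschemeι = T p.1.1 ∩ T p.1.2 := by
      rw [Scheme.IdealSheafData.range_subschemeι, Scheme.IdealSheafData.coe_support_vanishingIdeal]; rfl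
    obtain ⟨a, rfl⟩ := hr.ge ⟨h1, h2⟩
    obtain ⟨a', ha', -⟩ := H a hx
    obtain ⟨w, hw⟩ := (f.range_fiberι η).ge (show f (I.subschemeι a') = η from ha')
    obtain ⟨b1, b2⟩ := hr.le ⟨a', rfl⟩
    rw [← hw] at b1 b2
    exact p.2 ((hTgen _ w b1).symm.trans (hTgen _ w b2))
  choose V₁ hV₁ H₁ using hdis
  have hmeet : ∀ c, ∃ V : Y.Opens, (V : Set Y).Nonempty ∧ ∀ y ∈ V, ∃ x, f x = y ∧ (f x ∈ V₀ → x ∈ T c) := by
    intro c
    obtain ⟨w, rfl⟩ := ConnectedComponents.surjective_coe c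
    obtain ⟨W, hW, hWc⟩ := (ι.isEmbedding.isInducing.isOpen_iff).1 (hO (mk w))
    obtain ⟨V, hV, H⟩ := exists_forall_fibre_meets f (W := ⟨W, hW⟩)
      ⟨ι w, show w ∈ ι ⁻¹' W by rw [hWc]; exact rfl, (f.range_fiberι η).le ⟨w, rfl⟩⟩
    refine ⟨V, hV, fun y hy => ?_⟩
    obtain ⟨x, hxW, hx⟩ := H y hy
    refine ⟨x, hx, fun hx₀ => ?_⟩
    obtain ⟨x', hx', hsp⟩ := H₀ x hx₀
    obtain ⟨v, rfl⟩ := (f.range_fiberι η).ge hx'
    exact hsp.mem_closed isClosed_closure (subset_closure ⟨v, hWc.le (hsp.mem_open hW hxW), rfl⟩)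
  choose V₂ hV₂ H₂ using hmeet
  have hdense : ∀ {O : Y.Opens}, (O : Set Y).Nonempty → η ∈ O := fun hO => by
    obtain ⟨y, hy⟩ := hO
    exact (genericPoint_specializes y).mem_open (TopologicalSpace.Opens.isOpen _) hy
  refine ⟨V₀ ⊓ Finset.univ.inf V₁ ⊓ Finset.univ.inf V₂, ⟨η, ⟨hdense hV₀, ?_⟩, ?_⟩, fun y hy => ?_⟩
  · rw [TopologicalSpace.Opens.coe_finset_inf, Finset.inf_set_eq_iInter]
    exact Set.mem_iInter₂.2 fun C _ => hdense (hV₁ C)
  · rw [TopologicalSpace.Opens.coe_finset_inf, Finset.inf_set_eq_iInter]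
    exact Set.mem_iInter₂.2 fun C _ => hdense (hV₂ C)
  obtain ⟨⟨hy₀, hy₁⟩, hy₂⟩ := hy
  have hfy : ∀ z : f.fiber y, f (f.fiberι y z) = y := fun z => (f.range_fiberι y).le ⟨z, rfl⟩
  let P : _root_.ConnectedComponents ↥(f.fiber η) → Set ↥(f.fiber y) := fun c => f.fiberι y ⁻¹' T c
  have hPcl : ∀ c, IsClosed (P c) := fun c => isClosed_closure.preimage (f.fiberι y).continuous
  have hPdis : ∀ c d z, z ∈ P c → z ∈ P d → c = d := fun c d z h1 h2 => by_contra fun hne =>
    H₁ ⟨(c, d), hne⟩ _ (by rw [hfy]; exact Finset.inf_le (f := V₁) (Finset.mem_univ _) hy₁) h1 h2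
  have hPcov : ∀ z, ∃ c, z ∈ P c := fun z => by
    obtain ⟨x', hx', hsp⟩ := H₀ (f.fiberι y z) (by rw [hfy]; exact hy₀)
    obtain ⟨v, rfl⟩ := (f.range_fiberι η).ge hx'
    exact ⟨mk v, hsp.mem_closed isClosed_closure (subset_closure ⟨v, rfl, rfl⟩)⟩
  have hPopen : ∀ c, IsOpen (P c) := fun c => by
    have : P c = (⋃ d ∈ {d | d ≠ c}, P d)ᶜ := by
      ext z
      simp only [Set.mem_compl_iff, Set.mem_iUnion, Set.mem_ofPred_eq, not_exists]
      exact ⟨fun hz d hd hzd => hd (hPdis d c z hzd hz), fun hz => by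
        obtain ⟨d, hd⟩ := hPcov z
        rcases eq_or_ne d c with rfl | hne
        exacts [hd, absurd hd (hz d hne)]⟩
    rw [this]
    exact ((Set.toFinite _).isClosed_biUnion fun d _ => hPcl d).isOpen_compl
  have hne : ∀ c, ∃ z, z ∈ P c := fun c => by
    obtain ⟨x, hx, hxT⟩ := H₂ c y (Finset.inf_le (f := V₂) (Finset.mem_univ c) hy₂)
    obtain ⟨z, rfl⟩ := (f.range_fiberι y).ge hx
    exact ⟨z, hxT (by rw [hfy]; exact hy₀)⟩
  choose z hz using hne
  rw [← h]
  refine ENat.card_le_card_of_injective (f := fun c => (ConnectedComponents.mk (z c))) fun c d hcd => ?_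
  refine hPdis c d (z d) ?_ (hz d)
  exact IsClopen.connectedComponent_subset ⟨hPcl c, hPopen c⟩ (hz c)
    ((ConnectedComponents.coe_eq_coe'.1 hcd.symm))

end Groth.Agent.GenericFibreSpread
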