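import Groth.Agent.GenericFibreSpread.Chart
import Groth.Agent.FFColimMin.Basic

/-!
Reducedness over generic points of components.
-/

universe u

open AlgebraicGeometry CategoryTheory Limits TensorProduct

namespace Groth.Agent.GenericFibreSpread

/-- Tensoring a reduced algebra with the residue field at a minimal prime gives a reduced ring. -/
theorem isReduced_tensor_of_fraction (A B κ : Type u) [CommRing A] [CommRing B] [Field κ] [Algebra A B] [Algebra A κ]
    [_root_.IsReduced B]
    (hfrac : ∀ x : κ, ∃ a b : A, algebraMap A κ b ≠ 0 ∧ x * algebraMap A κ b = algebraMap A κ a)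
    (hker : ∀ a : A, algebraMap A κ a = 0 → ∃ t, algebraMap A κ t ≠ 0 ∧ ∃ n : ℕ, t * a ^ n = 0) :
    _root_.IsReduced (κ ⊗[A] B) := by
  let M : Submonoid A := (nonZeroDivisors κ).comap (algebraMap A κ).toMonoidHom
  have hM : ∀ t, t ∈ M ↔ algebraMap A κ t ≠ 0 := fun t => mem_nonZeroDivisors_iff_ne_zero
  let S := Algebra.algebraMapSubmonoid B M
  let L := Localization S
  have hLred : _root_.IsReduced L := isReduced_localizationPreserves S L ‹_›
  have hu : ∀ y : M, IsUnit (algebraMap A L y) := fun y => by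
    rw [IsScalarTower.algebraMap_apply A B L]
    exact IsLocalization.map_units L (⟨_, ⟨y, y.2, rfl⟩⟩ : S)
  have huk : ∀ y : M, IsUnit (algebraMap A κ y) := fun y => ((hM y).1 y.2).isUnit
  let g : Localization M →+* κ := IsLocalization.lift huk
  let h : Localization M →+* L := IsLocalization.lift hu
  have hg : Function.Surjective g := fun x => by
    obtain ⟨a, b, hb, hx⟩ := hfrac x
    refine ⟨IsLocalization.mk' _ a (⟨b, (hM b).2 hb⟩ : M), ?_⟩
    rw [IsLocalization.lift_mk'_spec, ← hx, mul_comm]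
  have hle : RingHom.ker g ≤ RingHom.ker h := fun x hx => by
    obtain ⟨a, y, rfl⟩ := IsLocalization.exists_mk'_eq M x
    have ha : algebraMap A κ a = 0 := by
      have := (IsLocalization.lift_mk'_spec (S := Localization M) huk a _ y).1 (RingHom.mem_ker.1 hx)
      rwa [mul_zero] at this
    obtain ⟨t, ht, n, hn⟩ := hker a ha
    have h0 : algebraMap A L a = 0 := by
      have hnil : IsNilpotent (algebraMap A L a) := ⟨n, ?_⟩
      · exact hnil.eq_zero
      rw [← (hu ⟨t, (hM t).2 ht⟩).mul_right_eq_zero, ← map_pow, ← map_mul, hn, map_zero]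
    rw [RingHom.mem_ker, IsLocalization.lift_mk'_spec, mul_zero, h0]
  let φ : κ →ₐ[A] L :=
    { RingHom.liftOfSurjective g hg ⟨h, hle⟩ with
      commutes' := fun a => by
        have := RingHom.liftOfRightInverse_comp_apply g (Function.surjInv hg) (Function.rightInverse_surjInv hg)
          ⟨h, hle⟩ (algebraMap A (Localization M) a)
        simp only [g, h, IsLocalization.lift_eq] at this
        exact this }
  let Φ := Algebra.TensorProduct.lift φ (IsScalarTower.toAlgHom A B L) fun _ _ => Commute.all _ _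
  have key : ∀ z : κ ⊗[A] B, ∃ (s : A) (b : B), algebraMap A κ s ≠ 0 ∧ (algebraMap A κ s ⊗ₜ[A] (1 : B)) * z = 1 ⊗ₜ b := by
    intro z
    induction z using TensorProduct.induction_on with
    | zero => exact ⟨1, 0, by simp, by simp⟩
    | tmul x b =>
      obtain ⟨a, c, hc, hx⟩ := hfrac x
      refine ⟨c, a • b, hc, ?_⟩
      rw [Algebra.TensorProduct.tmul_mul_tmul, mul_comm, hx, one_mul, Algebra.algebraMap_eq_smul_one, smul_tmul]
    | add z₁ z₂ h₁ h₂ =>
      obtain ⟨s₁, b₁, hs₁, e₁⟩ := h₁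
      obtain ⟨s₂, b₂, hs₂, e₂⟩ := h₂
      refine ⟨s₁ * s₂, s₂ • b₁ + s₁ • b₂, by simp [hs₁, hs₂], ?_⟩
      have hm : ∀ (a : A) (b : B), (algebraMap A κ a ⊗ₜ[A] (1 : B)) * (1 ⊗ₜ b) = 1 ⊗ₜ (a • b) := fun a b => by
        rw [Algebra.TensorProduct.tmul_mul_tmul, mul_one, one_mul, Algebra.algebraMap_eq_smul_one, smul_tmul]
      have hsplit : (algebraMap A κ (s₁ * s₂) ⊗ₜ[A] (1 : B)) =
          (algebraMap A κ s₁ ⊗ₜ[A] 1) * (algebraMap A κ s₂ ⊗ₜ[A] 1) := by
        rw [Algebra.TensorProduct.tmul_mul_tmul, map_mul, mul_one]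
      rw [tmul_add, ← hm, ← hm, ← e₁, ← e₂, hsplit]
      ring
  refine isReduced_of_injective Φ ((injective_iff_map_eq_zero Φ).2 fun z hz => ?_)
  obtain ⟨s, b, hs, e⟩ := key z
  have hb : algebraMap B L b = 0 := by
    have := congrArg Φ e
    rw [map_mul, hz, mul_zero] at this
    simpa [Φ] using this.symm
  obtain ⟨⟨_, t, ht, rfl⟩, hm⟩ := (IsLocalization.map_eq_zero_iff S L b).1 hb
  have h1 : (algebraMap A κ t ⊗ₜ[A] (1 : B)) * ((1 : κ) ⊗ₜ b) = 0 := by
    rw [Algebra.TensorProduct.tmul_mul_tmul, mul_one, one_mul, Algebra.algebraMap_eq_smul_one, smul_tmul,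
      Algebra.smul_def, hm, tmul_zero]
  have hunit : ∀ a : A, algebraMap A κ a ≠ 0 → IsUnit (algebraMap A κ a ⊗ₜ[A] (1 : B)) := fun a ha =>
    ha.isUnit.map (Algebra.TensorProduct.includeLeft : κ →ₐ[A] κ ⊗[A] B)
  rw [← e, (hunit t ((hM t).1 ht)).mul_right_eq_zero, (hunit s hs).mul_right_eq_zero] at h1
  exact h1

/-- Reducedness descends along flat maps from finitely many jointly injective algebras. -/
theorem isReduced_of_flat_of_injective_pi (A B : Type u) [CommRing A] [CommRing B] [Algebra A B] [Module.Flat A B]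
    {ι : Type u} [Finite ι] (K : ι → Type u) [∀ i, CommRing (K i)] [∀ i, Algebra A (K i)]
    (hinj : ∀ a : A, (∀ i, algebraMap A (K i) a = 0) → a = 0) (h : ∀ i, _root_.IsReduced (K i ⊗[A] B)) :
    _root_.IsReduced B := by
  classical
  cases nonempty_fintype ι
  refine ⟨fun b hb => ?_⟩
  let d : A →ₗ[A] (∀ i, K i) := LinearMap.pi fun i => Algebra.linearMap A (K i)
  have hd : Function.Injective d := (injective_iff_map_eq_zero d).2 fun a ha => hinj a fun i => congrFun ha i
  let e := TensorProduct.piRight A A B K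
  have hall : e ((d.lTensor B) (b ⊗ₜ (1 : A))) = 0 := by
    funext i
    have hi : ((1 : K i) ⊗ₜ[A] b) = 0 :=
      (hb.map (Algebra.TensorProduct.includeRight : B →ₐ[A] K i ⊗[A] B)).eq_zero
    have := congrArg (TensorProduct.comm A (K i) B) hi
    simpa [e, d] using this
  have := (map_eq_zero_iff _ (Module.Flat.lTensor_preserves_injective_linearMap d hd)).1 ((map_eq_zero_iff _ e.injective).1 hall)
  simpa using congrArg (TensorProduct.rid A B) this

/-- The evaluation at a point of an affine open, on spectra. -/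
theorem specMap_evaluation_fromSpec {Y : Scheme.{u}} {V : Y.Opens} (hV : IsAffineOpen V) (y : Y) (hy : y ∈ V) :
    Spec.map (Y.evaluation V y hy) ≫ hV.fromSpec = Y.fromSpecResidueField y := by
  rw [Scheme.fromSpecResidueField, ← hV.fromSpecStalk_eq_fromSpecStalk hy]
  show Spec.map (Y.presheaf.germ V y hy ≫ Y.residue y) ≫ hV.fromSpec = _
  rw [Spec.map_comp, Category.assoc]
  rfl

/-- A function vanishing at the generic point of a component is killed, up to a power, by one that does not. -/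
theorem exists_mul_pow_eq_zero_of_evaluation {Y : Scheme.{u}} {V : Y.Opens} (hV : IsAffineOpen V) (η : Y)
    (hη : η ∈ V) (hmax : closure {η} ∈ irreducibleComponents Y) (a : Γ(Y, V))
    (ha : (Y.evaluation V η hη).hom a = 0) :
    ∃ t, (Y.evaluation V η hη).hom t ≠ 0 ∧ ∃ n : ℕ, t * a ^ n = 0 := by
  let p := hV.primeIdealOf ⟨η, hη⟩
  have hp : hV.fromSpec p = η := hV.fromSpec_primeIdealOf _
  have hev : ∀ c, (Y.evaluation V η hη).hom c = 0 ↔ c ∈ p.asIdeal := fun c => by
    rw [Scheme.evaluation_eq_zero_iff_notMem_basicOpen]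
    have h := SetLike.ext_iff.1 (hV.fromSpec_preimage_basicOpen c) p
    rw [← hp]
    exact Iff.trans (not_congr h) (not_not (a := c ∈ p.asIdeal))
  have hmin : p.asIdeal ∈ minimalPrimes Γ(Y, V) := by
    refine ⟨⟨p.2, bot_le⟩, fun q hq hle => ?_⟩
    have hs : (⟨q, hq.1⟩ : PrimeSpectrum Γ(Y, V)) ⤳ p := (PrimeSpectrum.le_iff_specializes _ _).1 hle
    have hs' : hV.fromSpec (⟨q, hq.1⟩ : PrimeSpectrum Γ(Y, V)) ⤳ η := hp ▸ hs.map hV.fromSpec.continuous
    have hsub := hmax.2 (isIrreducible_singleton.closure) (specializes_iff_closure_subset.1 hs')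
    have heq : hV.fromSpec (⟨q, hq.1⟩ : PrimeSpectrum Γ(Y, V)) = hV.fromSpec p := by
      rw [hp]
      exact (hs'.antisymm (specializes_iff_closure_subset.2 hsub)).eq
    exact le_of_eq (congrArg PrimeSpectrum.asIdeal (hV.fromSpec.isOpenEmbedding.injective heq)).symm
  obtain ⟨t, ht, n, hn⟩ := FFColimMin.exists_mul_pow_eq_zero hmin ((hev a).1 ha)
  exact ⟨t, fun h => ht ((hev t).1 h), n, hn⟩

/-- The fibre of a reduced scheme over the generic point of a component is reduced. -/
theorem isReduced_fiber_of_component {X Y : Scheme.{u}} [IsReduced X] (f : X ⟶ Y) (η : Y)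
    (hmax : closure {η} ∈ irreducibleComponents Y) : IsReduced (f.fiber η) := by
  obtain ⟨_, ⟨V, hV, rfl⟩, hηV, -⟩ := Y.isBasis_affineOpens.exists_subset_of_mem_open (Set.mem_univ η) isOpen_univ
  refine @isReduced_of_isReduced_stalk _ fun z => ?_
  have hz : f (f.fiberι _ z) = η := (f.range_fiberι _).le ⟨z, rfl⟩
  obtain ⟨_, ⟨U, hU, rfl⟩, hzU, hUV⟩ := X.isBasis_affineOpens.exists_subset_of_mem_open
    (show f.fiberι _ z ∈ f ⁻¹ᵁ V from show f _ ∈ V from hz.symm ▸ hηV) (f ⁻¹ᵁ V).isOpen
  letI := (f.appLE V U hUV).hom.toAlgebra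
  letI : Algebra Γ(Y, V) (Y.residueField η) := (Y.evaluation V η hηV).hom.toAlgebra
  obtain ⟨j, hj, hjr⟩ := exists_chartMap f hV hU hUV _ rfl _ (specMap_evaluation_fromSpec hV η hηV)
  obtain ⟨q, rfl⟩ := hjr.ge hzU
  have hred : _root_.IsReduced (Y.residueField η ⊗[Γ(Y, V)] Γ(X, U)) :=
    isReduced_tensor_of_fraction _ _ _ (DimTrdeg.exists_evaluation_fraction hV η hηV)
      (exists_mul_pow_eq_zero_of_evaluation hV η hηV hmax)
  have : IsReduced (Spec (CommRingCat.of (Y.residueField η ⊗[Γ(Y, V)] Γ(X, U)))) := inferInstance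
  exact isReduced_of_injective (j.stalkMap q).hom (asIso (j.stalkMap q)).commRingCatIsoToRingEquiv.injective

/-- A flat scheme over a reduced one with reduced fibres over generic points is reduced. -/
theorem isReduced_of_flat_of_component_fibers {X Y : Scheme.{u}} (f : X ⟶ Y) [Flat f] [IsReduced Y]
    (hfin : (irreducibleComponents Y).Finite)
    (h : ∀ η : Y, closure {η} ∈ irreducibleComponents Y → IsReduced (f.fiber η)) : IsReduced X := by
  refine @isReduced_of_isReduced_stalk _ fun x => ?_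
  obtain ⟨_, ⟨V, hV, rfl⟩, hxV, -⟩ := Y.isBasis_affineOpens.exists_subset_of_mem_open (Set.mem_univ (f x)) isOpen_univ
  obtain ⟨_, ⟨U, hU, rfl⟩, hxU, hUV⟩ := X.isBasis_affineOpens.exists_subset_of_mem_open
    (show x ∈ f ⁻¹ᵁ V from hxV) (f ⁻¹ᵁ V).isOpen
  letI := (f.appLE V U hUV).hom.toAlgebra
  haveI : Module.Flat Γ(Y, V) Γ(X, U) :=
    RingHom.flat_algebraMap_iff.1 (HasRingHomProperty.appLE @Flat f inferInstance ⟨V, hV⟩ ⟨U, hU⟩ hUV)
  let s : Set Y := {η | closure {η} ∈ irreducibleComponents Y ∧ η ∈ V}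
  have : Finite s :=
    (Set.Finite.of_injOn (f := fun η => closure {η}) (fun η hη => hη.1)
      (fun _ _ _ _ e => (inseparable_iff_closure_eq.2 e).eq) hfin).to_subtype
  letI : ∀ η : s, Algebra Γ(Y, V) (Y.residueField η.1) := fun η => (Y.evaluation V η.1 η.2.2).hom.toAlgebra
  have hB : _root_.IsReduced Γ(X, U) := by
    refine isReduced_of_flat_of_injective_pi Γ(Y, V) Γ(X, U) (fun η : s => Y.residueField η.1) (fun a ha => ?_) fun η => ?_
    · rw [← basicOpen_eq_bot_iff a, ← SetLike.coe_injective.eq_iff, TopologicalSpace.Opens.coe_bot,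
        Set.eq_empty_iff_forall_notMem]
      intro y hy
      obtain ⟨Z, hZ, hyZ⟩ : ∃ Z ∈ irreducibleComponents Y, y ∈ Z :=
        ⟨_, irreducibleComponent_mem_irreducibleComponents y, mem_irreducibleComponent⟩
      obtain ⟨η, hη⟩ := QuasiSober.sober hZ.1 (isClosed_of_mem_irreducibleComponents Z hZ)
      have hηa : η ∈ Y.basicOpen a := (hη.specializes hyZ).mem_open (Y.basicOpen a).isOpen hy
      have := ha ⟨η, hη.def.symm ▸ hZ, Y.basicOpen_le a hηa⟩
      exact (Scheme.evaluation_ne_zero_iff_mem_basicOpen _ _ (Y.basicOpen_le a hηa) a).2 hηa this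
    · obtain ⟨j, hj, -⟩ := exists_chartMap f hV hU hUV (Y.residueField η.1) rfl _ (specMap_evaluation_fromSpec hV η.1 η.2.2)
      have : IsReduced (pullback f (Y.fromSpecResidueField η.1)) := h η.1 η.2.1
      exact (affine_isReduced_iff _).1 (isReduced_of_isOpenImmersion j)
  have : IsReduced (Spec Γ(X, U)) := inferInstance
  obtain ⟨q, rfl⟩ := hU.range_fromSpec.ge hxU
  exact isReduced_of_injective (hU.fromSpec.stalkMap q).hom
    (asIso (hU.fromSpec.stalkMap q)).commRingCatIsoToRingEquiv.injective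

end Groth.Agent.GenericFibreSpread
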