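import Groth.Agent.GenericFibreSpread.Inj
import Groth.Agent.GenericFibreSpread.Chart
import Groth.Agent.FlatDescent.Dom.Scheme
import Groth.Agent.FlatDescent.Dom.Chart
import Groth.Agent.FlatDescent.Dom.Dense

/-!
Scheme theoretic density in fibres spreads out from the generic fibre.
-/

universe u

open AlgebraicGeometry CategoryTheory Limits TensorProduct

namespace Groth.Agent.GenericFibreSpread

open Groth.FlatDescent.Dom

/-- An element killed by powers of jointly injective multipliers is zero. -/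
theorem eq_zero_of_pow_mul {A : Type u} [CommRing A] {m : ℕ} (h : Fin m → A)
    (hinj : ∀ z, (∀ i, h i * z = 0) → z = 0) (k : Fin m → ℕ) (z : A) (hz : ∀ i, h i ^ k i * z = 0) : z = 0 := by
  have key : ∀ (N : ℕ) (k : Fin m → ℕ), ∑ i, k i ≤ N → ∀ z : A, (∀ i, h i ^ k i * z = 0) → z = 0 := by
    intro N
    induction N with
    | zero =>
      intro k hk z hz
      exact hinj z fun i => by
        have h0 : k i = 0 := Finset.sum_eq_zero_iff.1 (Nat.le_zero.1 hk) i (Finset.mem_univ i)
        have := hz i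
        rw [h0, pow_zero, one_mul] at this
        rw [this, mul_zero]
    | succ N ih =>
      intro k hk z hz
      refine hinj z fun i => ?_
      rcases Nat.eq_zero_or_pos (k i) with h0 | h0
      · have := hz i
        rw [h0, pow_zero, one_mul] at this
        rw [this, mul_zero]
      refine ih (Function.update k i (k i - 1)) ?_ _ fun j => ?_
      · have h1 := Finset.sum_update_of_mem (Finset.mem_univ i) k (k i - 1)
        have h2 := Finset.add_sum_erase Finset.univ k (Finset.mem_univ i)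
        rw [h1]
        rw [Finset.sdiff_singleton_eq_erase]
        omega
      · rcases eq_or_ne j i with rfl | hji
        · rw [Function.update_self, ← mul_assoc, ← pow_succ, Nat.sub_add_cancel h0]
          exact hz j
        · rw [Function.update_of_ne hji, mul_left_comm, hz j, mul_zero]
  exact key _ k le_rfl z hz

/-- Scheme theoretic dominance of an open, in elementary terms. -/
theorem isSchemeTheoreticallyDominant_ι_iff {Z : Scheme.{u}} (U : Z.Opens) [QuasiCompact U.ι] :
    IsSchemeTheoreticallyDominant U.ι ↔ SchDom (fun _ : PUnit.{u+1} => U.ι) := by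
  constructor
  · intro h V t ht
    exact U.ι.app_injective V ((ht PUnit.unit).trans (map_zero _).symm)
  · intro h
    rw [isSchemeTheoreticallyDominant_iff]
    ext1
    funext W
    rw [Scheme.Hom.ker_apply, Scheme.IdealSheafData.ideal_bot, Pi.bot_apply, ← RingHom.injective_iff_ker_eq_bot,
      injective_iff_map_eq_zero]
    exact fun t ht => h W.1 t fun _ => ht

/-- On a chart, dominance gives joint injectivity of the defining functions. -/
theorem eq_zero_of_schDom_chart {Z : Scheme.{u}} {U : Z.Opens} (hU : SchDom (fun _ : PUnit.{u+1} => U.ι))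
    {R : CommRingCat.{u}} (c : Spec R ⟶ Z) [IsOpenImmersion c] {m : ℕ} (h : Fin m → R)
    (hc : ∀ p : PrimeSpectrum R, c p ∈ U ↔ ∃ i, h i ∉ p.asIdeal) (z : R) (hz : ∀ i, h i * z = 0) : z = 0 := by
  obtain ⟨k, hk⟩ := pow_mul_eq_zero_of_schDom_chart hU c 1 z fun _ w hw => by
    obtain ⟨p, hp⟩ := hw
    obtain ⟨i, hi⟩ := (hc p).1 (by rw [hp]; exact w.2)
    obtain ⟨μ, hμ, hμc, hμr⟩ := exists_test U c (h i) fun q hq => (hc q).2 ⟨i, hq⟩
    refine ⟨_, CommRingCat.ofHom (algebraMap R (Localization.Away (h i))), μ, hμ, hμr p hi w hp.symm, hμc, 0, ?_⟩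
    rw [pow_zero, one_mul]
    have h1 := congrArg (algebraMap R (Localization.Away (h i))) (hz i)
    rw [map_mul, map_zero] at h1
    exact (IsLocalization.Away.algebraMap_isUnit (h i)).mul_right_eq_zero.1 h1
  rwa [one_pow, one_mul] at hk

/-- Joint injectivity on charts gives dominance. -/
theorem schDom_of_charts {Z : Scheme.{u}} {U : Z.Opens}
    (H : ∀ z : Z, ∃ (R : CommRingCat.{u}) (c : Spec R ⟶ Z) (_ : IsOpenImmersion c) (m : ℕ) (h : Fin m → R),
      z ∈ Set.range c ∧ (∀ (p : PrimeSpectrum R) i, h i ∉ p.asIdeal → c p ∈ U) ∧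
        ∀ x : R, (∀ i, h i * x = 0) → x = 0) : SchDom (fun _ : PUnit.{u+1} => U.ι) := by
  refine schDom_of_local _ fun z => ?_
  obtain ⟨R, c, hc, m, h, hz, hle, hinj⟩ := H z
  refine ⟨c ''ᵁ ⊤, (isAffineOpen_top _).image_of_isOpenImmersion c, ?_, fun g y hgy => ?_⟩
  · obtain ⟨w, rfl⟩ := hz
    exact ⟨w, trivial, rfl⟩
  let e := chartRingIso c
  have hn : ∀ i, ∃ n k : ℕ, h i ^ k * (e.hom g ^ n * e.hom y) = 0 := fun i => by
    obtain ⟨μ, hμ, hμc, -⟩ := exists_test U c (h i) fun q hq => hle q i hq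
    obtain ⟨n, hn⟩ := hgy PUnit.unit _ (e.hom ≫ CommRingCat.ofHom (algebraMap R (Localization.Away (h i)))) μ (by
      rw [hμc, Spec.map_comp, Category.assoc, fromSpec_chartRingIso c])
    rw [CommRingCat.comp_apply, map_mul, map_pow] at hn
    have hn' : algebraMap R (Localization.Away (h i)) (e.hom g ^ n * e.hom y) = 0 := hn
    obtain ⟨⟨_, k, rfl⟩, hk⟩ := (IsLocalization.map_eq_zero_iff (Submonoid.powers (h i)) _ _).1 hn'
    exact ⟨n, k, hk⟩
  choose n k hnk using hn
  refine ⟨∑ i, n i, (ConcreteCategory.bijective_of_isIso e.hom).1 ?_⟩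
  rw [map_mul, map_pow, map_zero]
  refine eq_zero_of_pow_mul h hinj k _ fun i => ?_
  obtain ⟨d, hd⟩ : ∃ d, ∑ j, n j = n i + d :=
    ⟨_, (Nat.add_sub_cancel' (Finset.single_le_sum (fun _ _ => Nat.zero_le _) (Finset.mem_univ i))).symm⟩
  rw [hd, pow_add, mul_right_comm _ _ (e.hom y), ← mul_assoc, hnk i, zero_mul]

variable {X Y : Scheme.{u}} (f : X ⟶ Y)

/-- The chart of a fibre with its projection. -/
theorem exists_chartMap_fst {V : Y.Opens} (hV : IsAffineOpen V) {U : X.Opens} (hU : IsAffineOpen U) (h : U ≤ f ⁻¹ᵁ V)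
    (L : Type u) [Field L] [Algebra Γ(Y, V) L] [Algebra Γ(Y, V) Γ(X, U)]
    (halg : algebraMap Γ(Y, V) Γ(X, U) = (f.appLE V U h).hom)
    (s : Spec (CommRingCat.of L) ⟶ Y) (hs : Spec.map (CommRingCat.ofHom (algebraMap Γ(Y, V) L)) ≫ hV.fromSpec = s) :
    ∃ j : Spec (CommRingCat.of (L ⊗[Γ(Y, V)] Γ(X, U))) ⟶ pullback f s, IsOpenImmersion j ∧
      Set.range j = (pullback.fst f s) ⁻¹' U ∧ j ≫ pullback.fst f s =
        Spec.map (CommRingCat.ofHom (Algebra.TensorProduct.includeRight :
          Γ(X, U) →ₐ[Γ(Y, V)] L ⊗[Γ(Y, V)] Γ(X, U)).toRingHom) ≫ hU.fromSpec := by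
  let α := Spec.map (CommRingCat.ofHom (algebraMap Γ(Y, V) Γ(X, U)))
  let φ := Spec.map (CommRingCat.ofHom (algebraMap Γ(Y, V) L))
  have hα : α ≫ hV.fromSpec = hU.fromSpec ≫ f := by
    rw [show α = Spec.map (f.appLE V U h) by simp only [α, halg]; rfl]
    exact IsAffineOpen.SpecMap_appLE_fromSpec f hV hU h
  have h1 : IsPullback (pullback.fst α φ) (pullback.snd α φ) (hU.fromSpec ≫ f) s := by
    rw [← hα, ← hs]
    exact ⟨⟨by rw [← Category.assoc, ← Category.assoc, pullback.condition]⟩,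
      ⟨PullbackCone.isLimitOfCompMono α φ hV.fromSpec _ (limit.isLimit (cospan α φ))⟩⟩
  have h2 : IsPullback (pullback.snd (pullback.fst f s) hU.fromSpec)
      (pullback.fst (pullback.fst f s) hU.fromSpec ≫ pullback.snd f s) (hU.fromSpec ≫ f) s :=
    (IsPullback.of_hasPullback (pullback.fst f s) hU.fromSpec).flip.paste_vert (IsPullback.of_hasPullback f s)
  let e : Spec (CommRingCat.of (L ⊗[Γ(Y, V)] Γ(X, U))) ≅ pullback (pullback.fst f s) hU.fromSpec :=
    (pullbackSymmetry α φ ≪≫ pullbackSpecIso Γ(Y, V) L Γ(X, U)).symm ≪≫ h1.isoIsPullback _ _ h2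
  refine ⟨e.hom ≫ pullback.fst (pullback.fst f s) hU.fromSpec, inferInstance, ?_, ?_⟩
  · rw [show ⇑(e.hom ≫ pullback.fst (pullback.fst f s) hU.fromSpec) =
      ⇑(pullback.fst (pullback.fst f s) hU.fromSpec) ∘ ⇑e.hom from funext fun x => Scheme.Hom.comp_apply _ _ x,
      Set.range_comp, Set.range_eq_univ.2 e.hom.surjective, Set.image_univ, Scheme.Pullback.range_fst,
      hU.range_fromSpec]
  · rw [Category.assoc, pullback.condition, ← Category.assoc]
    congr 1
    simp only [e, Iso.trans_hom, Iso.symm_hom, Iso.trans_inv, Category.assoc]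
    erw [h1.isoIsPullback_hom_fst _ _ h2, pullbackSymmetry_inv_comp_fst]
    exact pullbackSpecIso_inv_snd Γ(Y, V) L Γ(X, U)

variable [IrreducibleSpace Y] [LocallyOfFiniteType f] [QuasiCompact f]

/-- Scheme theoretic density in the generic fibre spreads out. -/
theorem exists_schDense_fibres (U : X.Opens)
    (h : IsSchemeTheoreticallyDominant (f.fiberι (genericPoint Y) ⁻¹ᵁ U).ι) :
    ∃ V : Y.Opens, (V : Set Y).Nonempty ∧ ∀ y ∈ V, IsSchemeTheoreticallyDominant (f.fiberι y ⁻¹ᵁ U).ι := by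
  classical
  have hqc : ∀ y, QuasiCompact (f.fiberι y ⁻¹ᵁ U).ι := fun y => by
    have : LocallyOfFiniteType (f.fiberToSpecResidueField y) := MorphismProperty.pullback_snd _ _ inferInstance
    have : IsLocallyNoetherian (f.fiber y) := LocallyOfFiniteType.isLocallyNoetherian (f.fiberToSpecResidueField y)
    infer_instance
  obtain ⟨V₀, hV₀, hη, hfrac, hker, hspec⟩ := exists_chart_data (Y := Y)
  obtain ⟨t, ht, hcov⟩ := FibreND.exists_finite_cover f hV₀
  let η := genericPoint Y
  let K := Y.residueField η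
  letI : Algebra Γ(Y, V₀) K := (Y.evaluation V₀ η hη).hom.toAlgebra
  haveI := hqc η
  have hdom : SchDom (fun _ : PUnit.{u+1} => (f.fiberι η ⁻¹ᵁ U).ι) := (isSchemeTheoreticallyDominant_ι_iff _).1 h
  have key : ∀ W : t, ∃ c : Γ(Y, V₀), algebraMap Γ(Y, V₀) K c ≠ 0 ∧
      ∃ (m : ℕ) (hf : Fin m → Γ(X, W.1)), (∀ (p : PrimeSpectrum Γ(X, W.1)) i, hf i ∉ p.asIdeal → W.1.2.fromSpec p ∈ U) ∧
      ∀ (L : Type u) [Field L] [Algebra Γ(Y, V₀) L],
        RingHom.ker (algebraMap Γ(Y, V₀) K) ≤ RingHom.ker (algebraMap Γ(Y, V₀) L) → algebraMap Γ(Y, V₀) L c ≠ 0 →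
          letI := (f.appLE V₀ W.1 (ht _ W.2)).hom.toAlgebra
          ∀ z : L ⊗[Γ(Y, V₀)] Γ(X, W.1), (∀ i, ((1 : L) ⊗ₜ[Γ(Y, V₀)] hf i) * z = 0) → z = 0 := by
    intro W
    letI := (f.appLE V₀ W.1 (ht _ W.2)).hom.toAlgebra
    let B := Γ(X, W.1)
    let R := Γ(Y, V₀)
    haveI : Algebra.FiniteType R B := f.finiteType_appLE hV₀ W.1.2 (ht _ W.2)
    obtain ⟨D, _, _, _, _, _, _, hsurj, hD⟩ := exists_domain_model R K hfrac
    obtain ⟨J, hJ⟩ := (PrimeSpectrum.isClosed_iff_zeroLocus_ideal _).1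
      (U.2.isClosed_compl.preimage W.1.2.fromSpec.continuous)
    let ι₀ : B →ₐ[R] K ⊗[R] B := Algebra.TensorProduct.includeRight
    haveI : Algebra.FiniteType K (K ⊗[R] B) := inferInstance
    haveI : IsNoetherianRing (K ⊗[R] B) := Algebra.FiniteType.isNoetherianRing K _
    have hfg : (Submodule.span (K ⊗[R] B) (ι₀ '' (J : Set B))).FG := IsNoetherian.noetherian _
    obtain ⟨s, hsJ, hs⟩ := (Submodule.fg_span_iff_fg_span_finset_subset _).1 hfg
    choose g hgJ hg using fun x : s => hsJ x.2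
    let hf : Fin s.card → B := fun i => g (s.equivFin.symm i)
    have hle : ∀ (p : PrimeSpectrum B) i, hf i ∉ p.asIdeal → W.1.2.fromSpec p ∈ U := fun p i hi => by
      by_contra hn
      exact hi (hJ.le hn (hgJ _))
    obtain ⟨j, hj, hjr, hjf⟩ := exists_chartMap_fst f hV₀ W.1.2 (ht _ W.2) K rfl _ (hspec η hη)
    have hKinj : ∀ z : K ⊗[R] B, (∀ i, ((1 : K) ⊗ₜ[R] hf i) * z = 0) → z = 0 := by
      haveI : @IsOpenImmersion _ (f.fiber η) j := hj
      refine eq_zero_of_schDom_chart hdom (R := CommRingCat.of (K ⊗[R] B)) j (fun i => ι₀ (hf i)) fun p => ?_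
      have hcomm : f.fiberι η (j p) = W.1.2.fromSpec (Spec.map (CommRingCat.ofHom ι₀.toRingHom) p) := by
        show pullback.fst f (Y.fromSpecResidueField η) (j p) = _
        rw [← Scheme.Hom.comp_apply, hjf, Scheme.Hom.comp_apply]
      show f.fiberι η (j p) ∈ U ↔ _
      rw [hcomm]
      refine ⟨fun hp => ?_, fun ⟨i, hi⟩ => hle _ i hi⟩
      by_contra hall
      push Not at hall
      refine hJ.ge (fun b hb => ?_) hp
      have hb' : ι₀ b ∈ Submodule.span (K ⊗[R] B) (ι₀ '' (J : Set B)) := Submodule.subset_span ⟨b, hb, rfl⟩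
      rw [hs] at hb'
      refine (Submodule.span_le (p := p.asIdeal)).2 (fun x hx => ?_) hb'
      have := hall (s.equivFin ⟨x, hx⟩)
      simp only [hf, Equiv.symm_apply_apply] at this
      rwa [hg] at this
    let φ : D ⊗[R] B →ₗ[D ⊗[R] B] (Fin s.card → D ⊗[R] B) :=
      LinearMap.pi fun i => LinearMap.mulLeft _ ((1 : D) ⊗ₜ[R] hf i)
    have heval : ∀ (L : Type u) [Field L] [Algebra D L] [Algebra R L] [IsScalarTower R D L] (z : L ⊗[D] (D ⊗[R] B)) (i : Fin s.card),
        Algebra.TensorProduct.cancelBaseChange R D L L B (piRight D D L (fun _ : Fin s.card => D ⊗[R] B) ((φ.restrictScalars D).lTensor L z) i) =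
          ((1 : L) ⊗ₜ[R] hf i) * Algebra.TensorProduct.cancelBaseChange R D L L B z := by
      intro L _ _ _ _ z i
      induction z using TensorProduct.induction_on with
      | zero => simp
      | add a b ha hb => simp only [map_add, Pi.add_apply, ha, hb, mul_add]
      | tmul l y =>
        rw [LinearMap.lTensor_tmul, piRight_apply, piRightHom_tmul]
        show Algebra.TensorProduct.cancelBaseChange R D L L B (l ⊗ₜ (((1 : D) ⊗ₜ[R] hf i) * y)) = _
        induction y using TensorProduct.induction_on with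
        | zero => simp
        | add a b ha hb => simp only [mul_add, tmul_add, map_add, ha, hb]
        | tmul d b =>
          simp only [Algebra.TensorProduct.tmul_mul_tmul, one_mul, Algebra.TensorProduct.cancelBaseChange_tmul,
            Algebra.mul_smul_comm]
    have hKD : Function.Injective ((φ.restrictScalars D).lTensor K) := by
      refine (injective_iff_map_eq_zero _).2 fun z hz => ?_
      refine (map_eq_zero_iff _ (Algebra.TensorProduct.cancelBaseChange R D K K B).injective).1 (hKinj _ fun i => ?_)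
      rw [← heval K z i, hz]
      simp
    obtain ⟨c', hc', H⟩ := exists_forall_injective_lTensor D (D ⊗[R] B) K φ hKD
    obtain ⟨c, rfl⟩ := hsurj c'
    refine ⟨c, ?_, s.card, hf, hle, fun L _ _ hker' hcL z hz => ?_⟩
    · rw [IsScalarTower.algebraMap_apply R D K]
      exact (map_ne_zero_iff _ (IsFractionRing.injective D K)).2 hc'
    · obtain ⟨_, _⟩ := hD L hker'
      obtain ⟨z, rfl⟩ := (Algebra.TensorProduct.cancelBaseChange R D L L B).surjective z
      have h0 : (φ.restrictScalars D).lTensor L z = 0 := by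
        refine (piRight D D L (fun _ : Fin s.card => D ⊗[R] B)).injective (funext fun i => ?_)
        refine (Algebra.TensorProduct.cancelBaseChange R D L L B).injective ?_
        rw [heval L z i, hz i]
        simp
      rw [(injective_iff_map_eq_zero _).1 (H L (by rwa [← IsScalarTower.algebraMap_apply R D L])) z h0, map_zero]
  choose c hc m hf hle H using key
  let b := ∏ W, c W
  have hb : algebraMap Γ(Y, V₀) K b ≠ 0 := by
    rw [map_prod]; exact Finset.prod_ne_zero_iff.2 fun W _ => hc W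
  refine ⟨Y.basicOpen b, ⟨η, (Scheme.evaluation_ne_zero_iff_mem_basicOpen _ _ hη _).1 hb⟩, fun y hy => ?_⟩
  haveI := hqc y
  refine (isSchemeTheoreticallyDominant_ι_iff _).2 (schDom_of_charts fun z => ?_)
  have hyV : y ∈ V₀ := Y.basicOpen_le b hy
  letI : Algebra Γ(Y, V₀) (Y.residueField y) := (Y.evaluation V₀ y hyV).hom.toAlgebra
  have hz : f (f.fiberι y z) = y := (f.range_fiberι y).le ⟨z, rfl⟩
  obtain ⟨W, hWt, hzW⟩ := hcov _ (show f _ ∈ V₀ from hz.symm ▸ hyV)
  letI := (f.appLE V₀ W (ht W hWt)).hom.toAlgebra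
  obtain ⟨j, hj, hjr, hjf⟩ := exists_chartMap_fst f hV₀ W.2 (ht W hWt) (Y.residueField y) rfl _ (hspec y hyV)
  refine ⟨CommRingCat.of (Y.residueField y ⊗[Γ(Y, V₀)] Γ(X, W)), j, hj, m ⟨W, hWt⟩,
    fun i => (1 : Y.residueField y) ⊗ₜ[Γ(Y, V₀)] hf ⟨W, hWt⟩ i, hjr.ge hzW, fun p i hi => ?_,
    H ⟨W, hWt⟩ (Y.residueField y) (hker y hyV) ?_⟩
  · show pullback.fst f (Y.fromSpecResidueField y) (j p) ∈ U
    rw [← Scheme.Hom.comp_apply, hjf, Scheme.Hom.comp_apply]
    exact hle ⟨W, hWt⟩ _ i hi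
  · have h1 := (Scheme.evaluation_ne_zero_iff_mem_basicOpen _ _ hyV b).2 hy
    rw [map_prod] at h1
    exact Finset.prod_ne_zero_iff.1 h1 ⟨W, hWt⟩ (Finset.mem_univ _)

end Groth.Agent.GenericFibreSpread
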